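import Mathlib.GroupTheory.Sylow
import Mathlib.GroupTheory.Nilpotent

/-!
Groups with the same order type: a bijection preserving element orders, and what counting
elements of order dividing a Hall number says about normal Hall subgroups.
-/

set_option autoImplicit false

namespace Cfsg.Lib.OrderType

variable {G H : Type*} [Group G] [Group H]

theorem exists_equiv_orderOf [Finite G] [Finite H]
    (hT : ∀ m : ℕ, Nat.card {g : G // orderOf g = m} = Nat.card {h : H // orderOf h = m}) :
    ∃ e : G ≃ H, ∀ g, orderOf (e g) = orderOf g := by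
  have hf : ∀ c, Nonempty ({g : G // orderOf g = c} ≃ {h : H // orderOf h = c}) := fun c =>
    ⟨(Finite.equivFinOfCardEq (hT c)).trans (Finite.equivFin _).symm⟩
  let f := fun c => (hf c).some
  exact ⟨Equiv.ofFiberEquiv f, fun g => Equiv.ofFiberEquiv_map f g⟩

theorem card_eq [Finite G] [Finite H]
    (hT : ∀ m : ℕ, Nat.card {g : G // orderOf g = m} = Nat.card {h : H // orderOf h = m}) :
    Nat.card G = Nat.card H :=
  let ⟨e, _⟩ := exists_equiv_orderOf hT
  Nat.card_congr e

theorem card_orderOf_dvd [Finite G] [Finite H]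
    (hT : ∀ m : ℕ, Nat.card {g : G // orderOf g = m} = Nat.card {h : H // orderOf h = m}) (M : ℕ) :
    Nat.card {g : G // orderOf g ∣ M} = Nat.card {h : H // orderOf h ∣ M} := by
  obtain ⟨e, he⟩ := exists_equiv_orderOf hT
  exact Nat.card_congr (e.subtypeEquiv fun g => by rw [he])

/-- A normal subgroup of order coprime to its index consists of the elements of order dividing
its order. -/
theorem mem_iff_orderOf_dvd (N : Subgroup G) [N.Normal]
    (h : (Nat.card N).Coprime N.index) (g : G) : g ∈ N ↔ orderOf g ∣ Nat.card N := by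
  refine ⟨fun hg => ?_, fun hg => ?_⟩
  · rw [← Subgroup.orderOf_mk g hg]; exact orderOf_dvd_natCard _
  · have h1 : orderOf (QuotientGroup.mk' N g) ∣ Nat.card N :=
      (orderOf_map_dvd _ g).trans hg
    have h2 : orderOf (QuotientGroup.mk' N g) ∣ N.index := by
      rw [Subgroup.index_eq_card]; exact orderOf_dvd_natCard _
    have h3 : orderOf (QuotientGroup.mk' N g) = 1 :=
      Nat.eq_one_of_dvd_coprimes h h1 h2
    rwa [orderOf_eq_one_iff, QuotientGroup.mk'_apply, QuotientGroup.eq_one_iff] at h3

theorem card_orderOf_dvd_of_normal (N : Subgroup G) [N.Normal]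
    (h : (Nat.card N).Coprime N.index) :
    Nat.card {g : G // orderOf g ∣ Nat.card N} = Nat.card N :=
  (Nat.card_congr (Equiv.subtypeEquivRight fun g => mem_iff_orderOf_dvd N h g)).symm

/-- A subgroup of order `M` is normal as soon as only `M` elements have order dividing `M`. -/
theorem normal_of_card_orderOf_dvd [Finite G] (K : Subgroup G)
    (h : Nat.card {g : G // orderOf g ∣ Nat.card K} = Nat.card K) : K.Normal := by
  have hsub : (K : Set G) ⊆ {g : G | orderOf g ∣ Nat.card K} := fun g (hg : g ∈ K) => by
    simp only [Set.mem_setOf_eq, ← Subgroup.orderOf_mk g hg]; exact orderOf_dvd_natCard _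
  have heq : (K : Set G) = {g : G | orderOf g ∣ Nat.card K} :=
    Set.eq_of_subset_of_ncard_le hsub (by
      simp only [← Nat.card_coe_set_eq]; exact le_of_eq h)
  refine ⟨fun n hn g => ?_⟩
  have h1 : n ∈ (K : Set G) := hn
  show g * n * g⁻¹ ∈ (K : Set G)
  rw [heq, Set.mem_setOf_eq] at h1 ⊢
  rwa [show g * n * g⁻¹ = MulAut.conj g n from rfl, MulEquiv.orderOf_eq]

theorem normal_of_same_orderType [Finite G] [Finite H]
    (hT : ∀ m : ℕ, Nat.card {g : G // orderOf g = m} = Nat.card {h : H // orderOf h = m})
    (N : Subgroup G) [N.Normal] (hN : (Nat.card N).Coprime N.index)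
    (K : Subgroup H) (hK : Nat.card K = Nat.card N) : K.Normal :=
  normal_of_card_orderOf_dvd K (by
    rw [← card_orderOf_dvd hT, hK, card_orderOf_dvd_of_normal N hN])

end Cfsg.Lib.OrderType
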