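/-
Finite groups together with their functions `n ↦ #{x | x ^ n = 1}`, and affine groups over
products of small rings.
-/
import Mathlib
import Cfsg.Agent.OrderType.Count

set_option linter.style.haveILetI false

namespace Cfsg.Lib.OrderType

open Finset

/-- A finite group with its count of solutions of `x ^ n = 1`. -/
structure CGrp where
  carrier : Type
  [group : Group carrier]
  [fin : Finite carrier]
  f : ℕ → ℕ
  card : ℕ
  hf : ∀ n, Nat.card {x : carrier // x ^ n = 1} = f n
  hcard : Nat.card carrier = card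

attribute [instance] CGrp.group CGrp.fin

namespace CGrp

def one : CGrp where
  carrier := Unit
  f _ := 1
  card := 1
  hf n := Nat.card_eq_one_iff_unique.2 ⟨inferInstance, ⟨⟨(), rfl⟩⟩⟩
  hcard := Nat.card_unique

def prod (A B : CGrp) : CGrp where
  carrier := A.carrier × B.carrier
  f n := A.f n * B.f n
  card := A.card * B.card
  hf n := by
    rw [← A.hf, ← B.hf, ← Nat.card_prod]
    exact Nat.card_congr
      { toFun := fun x => (⟨x.1.1, congrArg Prod.fst x.2⟩, ⟨x.1.2, congrArg Prod.snd x.2⟩)
        invFun := fun x => ⟨(x.1.1, x.2.1), Prod.ext x.1.2 x.2.2⟩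
        left_inv := fun x => rfl
        right_inv := fun x => rfl }
  hcard := by rw [Nat.card_prod, A.hcard, B.hcard]

def pow (A : CGrp) : ℕ → CGrp
  | 0 => one
  | e + 1 => (A.pow e).prod A

theorem pow_f (A : CGrp) (e n : ℕ) : (A.pow e).f n = A.f n ^ e := by
  induction e with
  | zero => rfl
  | succ e ih => exact (congrArg (· * A.f n) ih).trans (pow_succ _ _).symm

theorem pow_card (A : CGrp) (e : ℕ) : (A.pow e).card = A.card ^ e := by
  induction e with
  | zero => rfl
  | succ e ih => exact (congrArg (· * A.card) ih).trans (pow_succ _ _).symm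

def bigProd : List (CGrp × ℕ) → CGrp
  | [] => one
  | (A, e) :: l => (A.pow e).prod (bigProd l)

theorem bigProd_f (l : List (CGrp × ℕ)) (n : ℕ) :
    (bigProd l).f n = (l.map fun x => x.1.f n ^ x.2).prod := by
  induction l with
  | nil => rfl
  | cons x l ih =>
    obtain ⟨A, e⟩ := x
    show (A.pow e).f n * (bigProd l).f n = _
    rw [pow_f, ih, List.map_cons, List.prod_cons]

theorem bigProd_card (l : List (CGrp × ℕ)) :
    (bigProd l).card = (l.map fun x => x.1.card ^ x.2).prod := by
  induction l with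
  | nil => rfl
  | cons x l ih =>
    obtain ⟨A, e⟩ := x
    show (A.pow e).card * (bigProd l).card = _
    rw [pow_card, ih, List.map_cons, List.prod_cons]

theorem solvable_pow {A : CGrp} (h : Group.IsSolvable A.carrier) : ∀ e, Group.IsSolvable (A.pow e).carrier
  | 0 => show Group.IsSolvable Unit from inferInstance
  | e + 1 => by
    haveI := h
    haveI := solvable_pow h e
    show Group.IsSolvable ((A.pow e).carrier × A.carrier)
    infer_instance

theorem solvable_bigProd : ∀ l : List (CGrp × ℕ), (∀ x ∈ l, Group.IsSolvable x.1.carrier) →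
    Group.IsSolvable (bigProd l).carrier
  | [], _ => show Group.IsSolvable Unit from inferInstance
  | (A, e) :: l, h => by
    haveI := solvable_pow (h (A, e) List.mem_cons_self) e
    haveI := solvable_bigProd l fun x hx => h x (List.mem_cons_of_mem _ hx)
    show Group.IsSolvable ((A.pow e).carrier × (bigProd l).carrier)
    infer_instance

theorem f_eq_gcd (A : CGrp) {E : ℕ} (h : A.f E = A.card) (n : ℕ) : A.f n = A.f (n.gcd E) := by
  have hE : ∀ x : A.carrier, x ^ E = 1 := fun x => by
    have hbij : Function.Bijective (Subtype.val : {x : A.carrier // x ^ E = 1} → A.carrier) :=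
      Nat.bijective_iff_injective_and_card _ |>.2 ⟨Subtype.val_injective, by rw [A.hf, h, A.hcard]⟩
    obtain ⟨y, rfl⟩ := hbij.2 x
    exact y.2
  rw [← A.hf, ← A.hf]
  refine Nat.card_congr (Equiv.subtypeEquivRight fun x => ?_)
  rw [← orderOf_dvd_iff_pow_eq_one, ← orderOf_dvd_iff_pow_eq_one, Nat.dvd_gcd_iff]
  exact ⟨fun hn => ⟨hn, orderOf_dvd_of_pow_eq_one (hE x)⟩, fun hn => hn.1⟩

theorem card_orderOf_eq (A B : CGrp) (h : ∀ n, A.f n = B.f n) (n : ℕ) :
    Nat.card {x : A.carrier // orderOf x = n} = Nat.card {x : B.carrier // orderOf x = n} := by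
  classical
  haveI := Fintype.ofFinite A.carrier
  haveI := Fintype.ofFinite B.carrier
  induction n using Nat.strong_induction_on with
  | _ n ih =>
  rcases Nat.eq_zero_or_pos n with rfl | hn
  · haveI : IsEmpty {x : A.carrier // orderOf x = 0} := ⟨fun x => (orderOf_pos x.1).ne' x.2⟩
    haveI : IsEmpty {x : B.carrier // orderOf x = 0} := ⟨fun x => (orderOf_pos x.1).ne' x.2⟩
    rw [Nat.card_of_isEmpty, Nat.card_of_isEmpty]
  have key : ∀ C : CGrp, ∀ [Fintype C.carrier],
      C.f n = Nat.card {x : C.carrier // orderOf x = n} +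
        ∑ d ∈ n.properDivisors, Nat.card {x : C.carrier // orderOf x = d} := by
    intro C _
    have e1 : C.f n = #{x : C.carrier | x ^ n = 1} := by
      rw [← C.hf, Nat.card_eq_fintype_card, Fintype.card_subtype]
    have e2 : C.f n = ∑ d ∈ n.divisors, #{x : C.carrier | orderOf x = d} := by
      rw [e1]
      convert (sum_card_orderOf_eq_card_pow_eq_one (G := C.carrier) hn.ne').symm
    rw [e2, ← Nat.cons_self_properDivisors hn.ne', Finset.sum_cons]
    simp only [Nat.card_eq_fintype_card, Fintype.card_subtype]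
  have hA := key A
  have hB := key B
  have hs : ∑ d ∈ n.properDivisors, Nat.card {x : A.carrier // orderOf x = d} =
      ∑ d ∈ n.properDivisors, Nat.card {x : B.carrier // orderOf x = d} :=
    Finset.sum_congr rfl fun d hd => ih d (Nat.mem_properDivisors.1 hd).2
  rw [h n] at hA
  omega

end CGrp

/-- A finite commutative ring with an action of `M` by units and the sizes of the kernels of the
multiplication by the norms. -/
structure Mod (M : Type) [CommGroup M] where
  R : Type
  [ring : CommRing R]
  [fin : Finite R]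
  χ : M →* Rˣ
  size : ℕ
  k : ℕ → M → ℕ
  hsize : Nat.card R = size
  hk : ∀ n t, t ^ n = 1 →
    Nat.card {v : R // (∑ i ∈ range n, ((χ t : Rˣ) : R) ^ i) * v = 0} = k n t

attribute [instance] Mod.ring Mod.fin

variable {M : Type} [CommGroup M]

/-- The affine group of `S`: pairs of a vector and an element of `M`. -/
@[ext]
structure Aff (S : Mod M) where
  v : S.R
  t : M

namespace Aff

variable {S : Mod M}

instance : Group (Aff S) where
  mul x y := ⟨x.v + (S.χ x.t : S.R) * y.v, x.t * y.t⟩
  one := ⟨0, 1⟩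
  inv x := ⟨-((S.χ x.t⁻¹ : S.R) * x.v), x.t⁻¹⟩
  mul_assoc x y z := by
    refine Aff.ext ?_ (mul_assoc _ _ _)
    show x.v + (S.χ x.t : S.R) * y.v + (S.χ (x.t * y.t) : S.R) * z.v =
      x.v + (S.χ x.t : S.R) * (y.v + (S.χ y.t : S.R) * z.v)
    rw [map_mul, Units.val_mul]; ring
  one_mul x := by
    refine Aff.ext ?_ (one_mul _)
    show 0 + (S.χ 1 : S.R) * x.v = x.v
    rw [map_one, Units.val_one, zero_add, one_mul]
  mul_one x := by
    refine Aff.ext ?_ (mul_one _)
    show x.v + (S.χ x.t : S.R) * 0 = x.v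
    rw [mul_zero, add_zero]
  inv_mul_cancel x := by
    refine Aff.ext ?_ (inv_mul_cancel _)
    show -((S.χ x.t⁻¹ : S.R) * x.v) + (S.χ x.t⁻¹ : S.R) * x.v = 0
    rw [neg_add_cancel]

theorem pow_def (x : Aff S) (n : ℕ) :
    x ^ n = ⟨(∑ i ∈ range n, ((S.χ x.t : S.Rˣ) : S.R) ^ i) * x.v, x.t ^ n⟩ := by
  induction n with
  | zero =>
    rw [pow_zero, pow_zero, Finset.sum_range_zero, zero_mul]; rfl
  | succ n ih =>
    rw [pow_succ, ih]
    refine Aff.ext ?_ (pow_succ _ _).symm
    show (∑ i ∈ range n, ((S.χ x.t : S.Rˣ) : S.R) ^ i) * x.v + (S.χ (x.t ^ n) : S.R) * x.v = _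
    rw [map_pow, Units.val_pow_eq_pow_val, Finset.sum_range_succ, add_mul]

def equivProd : Aff S ≃ S.R × M where
  toFun x := (x.v, x.t)
  invFun x := ⟨x.1, x.2⟩
  left_inv _ := rfl
  right_inv _ := rfl

instance [Finite M] : Finite (Aff S) := Finite.of_equiv _ equivProd.symm

def fn [Fintype M] [DecidableEq M] (S : Mod M) (n : ℕ) : ℕ :=
  ((Finset.univ : Finset M).filter fun t => t ^ n = 1).sum (S.k n)

theorem hf [Fintype M] [DecidableEq M] (n : ℕ) : Nat.card {x : Aff S // x ^ n = 1} = fn S n := by
  classical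
  haveI := Fintype.ofFinite S.R
  have e : {x : Aff S // x ^ n = 1} ≃ Σ t : {t : M // t ^ n = 1},
      {v : S.R // (∑ i ∈ range n, ((S.χ t.1 : S.Rˣ) : S.R) ^ i) * v = 0} :=
    { toFun := fun x => ⟨⟨x.1.t, congrArg Aff.t ((pow_def x.1 n).symm.trans x.2)⟩,
        ⟨x.1.v, congrArg Aff.v ((pow_def x.1 n).symm.trans x.2)⟩⟩
      invFun := fun y => ⟨⟨y.2.1, y.1.1⟩, (pow_def _ n).trans (Aff.ext y.2.2 y.1.2)⟩
      left_inv := fun _ => rfl
      right_inv := fun _ => rfl }
  rw [Nat.card_congr e, Nat.card_sigma]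
  rw [Finset.sum_congr rfl fun t _ => S.hk n t.1 t.2]
  exact (Finset.sum_subtype _ (fun t => by rw [mem_filter]; exact and_iff_right (mem_univ t)) (S.k n)).symm

/-- The affine group as a counted group. -/
def toCGrp [Fintype M] [DecidableEq M] (S : Mod M) : CGrp where
  carrier := Aff S
  f := fn S
  card := S.size * Fintype.card M
  hf := hf
  hcard := by rw [Nat.card_congr equivProd, Nat.card_prod, S.hsize, Nat.card_eq_fintype_card]

theorem solvable (S : Mod M) : Group.IsSolvable (Aff S) := by
  let π : Aff S →* M := { toFun := fun x => x.t, map_one' := rfl, map_mul' := fun _ _ => rfl }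
  let ι : Multiplicative S.R →* Aff S :=
    { toFun := fun v => ⟨v.toAdd, 1⟩
      map_one' := rfl
      map_mul' := fun v w => by
        refine Aff.ext ?_ (one_mul _).symm
        show v.toAdd + w.toAdd = v.toAdd + (S.χ 1 : S.R) * w.toAdd
        rw [map_one, Units.val_one, one_mul] }
  exact Group.isSolvable_of_ker_le_range ι π fun x hx => ⟨Multiplicative.ofAdd x.v, Aff.ext rfl hx.symm⟩

end Aff

end Cfsg.Lib.OrderType
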