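/-
`SL(3,2)`: the number of solutions of `x ^ n = 1`, and non-solvability.
-/
import Cfsg.Agent.OrderType.Basic

set_option linter.style.haveILetI false

namespace Cfsg.Lib.OrderType

open Matrix
open scoped commutatorElement

/-- The simple group of order 168. -/
abbrev L168 : Type := SpecialLinearGroup (Fin 3) (ZMod 2)

/-- The number of solutions of `x ^ d = 1` in `L168`, for `d ∣ 84`. -/
def fL168 : ℕ → ℕ
  | 1 => 1
  | 2 => 22
  | 3 => 57
  | 4 => 64
  | 6 => 78
  | 7 => 49
  | 12 => 120
  | 14 => 70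
  | 21 => 105
  | 28 => 112
  | 42 => 126
  | 84 => 168
  | _ => 0

theorem l168_small_pow : ∀ x : L168, x ^ 3 = 1 ∨ x ^ 4 = 1 ∨ x ^ 7 = 1 := by decide +kernel

theorem l168_two : ((Finset.univ : Finset L168).filter fun x => x ^ 2 = 1).card = 22 := by decide +kernel

theorem l168_three : ((Finset.univ : Finset L168).filter fun x => x ^ 3 = 1).card = 57 := by decide +kernel

theorem l168_four : ((Finset.univ : Finset L168).filter fun x => x ^ 4 = 1).card = 64 := by decide +kernel

theorem l168_seven : ((Finset.univ : Finset L168).filter fun x => x ^ 7 = 1).card = 49 := by decide +kernel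

theorem l168_card : Fintype.card L168 = 168 := by decide +kernel

theorem l168_pow (x : L168) : x ^ 84 = 1 := by
  rcases l168_small_pow x with h | h | h
  · rw [show 84 = 3 * 28 by norm_num, pow_mul, h, one_pow]
  · rw [show 84 = 4 * 21 by norm_num, pow_mul, h, one_pow]
  · rw [show 84 = 7 * 12 by norm_num, pow_mul, h, one_pow]

theorem l168_one : ((Finset.univ : Finset L168).filter fun x => x ^ 1 = 1).card = 1 := by
  simp [Finset.filter_eq']

theorem l168_indicator (x : L168) (d : ℕ) :
    (if x ^ d = 1 then 1 else 0) + 2 * (if x ^ 1 = 1 then 1 else 0) =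
      (if x ^ d.gcd 3 = 1 then 1 else 0) + (if x ^ d.gcd 4 = 1 then 1 else 0) +
        (if x ^ d.gcd 7 = 1 then (1 : ℕ) else 0) := by
  have e : ∀ m, (x ^ d.gcd m = 1) ↔ (x ^ d = 1 ∧ x ^ m = 1) := fun m => by
    simp only [← orderOf_dvd_iff_pow_eq_one, Nat.dvd_gcd_iff]
  by_cases h1 : x = 1
  · subst h1; simp
  have hne : ∀ a b : ℕ, Nat.Coprime a b → x ^ a = 1 → ¬ x ^ b = 1 := fun a b hab ha hb => h1 (by
    rw [← orderOf_eq_one_iff]
    exact Nat.eq_one_of_dvd_coprimes hab (orderOf_dvd_of_pow_eq_one ha) (orderOf_dvd_of_pow_eq_one hb))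
  simp only [e, pow_one, h1, if_false, mul_zero, add_zero]
  rcases l168_small_pow x with h | h | h
  · simp [h, hne 3 4 (by norm_num) h, hne 3 7 (by norm_num) h]
  · simp [h, hne 4 3 (by norm_num) h, hne 4 7 (by norm_num) h]
  · simp [h, hne 7 3 (by norm_num) h, hne 7 4 (by norm_num) h]

theorem l168_counts (d : ℕ) (hd : d ∈ Nat.divisors 84) :
    ((Finset.univ : Finset L168).filter fun x => x ^ d = 1).card = fL168 d := by
  have h := Finset.sum_congr (s₁ := (Finset.univ : Finset L168)) rfl fun x _ => l168_indicator x d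
  simp only [Finset.sum_add_distrib, ← Finset.mul_sum, Finset.sum_boole, Nat.cast_id, l168_one] at h
  revert h hd
  revert d
  have key : ∀ a ∈ [1, 3], ∀ b ∈ [1, 2, 4], ∀ c ∈ [1, 7],
      ((Finset.univ : Finset L168).filter fun x => x ^ a = 1).card +
      ((Finset.univ : Finset L168).filter fun x => x ^ b = 1).card +
      ((Finset.univ : Finset L168).filter fun x => x ^ c = 1).card = fL168 (a * b * c) + 2 := by
    simp only [List.forall_mem_cons, List.not_mem_nil, false_implies, implies_true, and_true,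
      l168_one, l168_two, l168_three, l168_four, l168_seven]
    simp [fL168]
  intro d hd h
  have hd' : (d.gcd 3) * (d.gcd 4) * (d.gcd 7) = d ∧ d.gcd 3 ∈ [1, 3] ∧ d.gcd 4 ∈ [1, 2, 4] ∧ d.gcd 7 ∈ [1, 7] := by
    have all : ∀ m ∈ Nat.divisors 84,
        (m.gcd 3) * (m.gcd 4) * (m.gcd 7) = m ∧ m.gcd 3 ∈ [1, 3] ∧ m.gcd 4 ∈ [1, 2, 4] ∧ m.gcd 7 ∈ [1, 7] := by
      decide +kernel
    exact all d hd
  obtain ⟨he, ha, hb, hc⟩ := hd'
  rw [key _ ha _ hb _ hc, he] at h
  omega

/-- `SL(3,2)` as a counted group. -/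
def simpleFactor : CGrp where
  carrier := L168
  f n := fL168 (n.gcd 84)
  card := 168
  hf n := by
    rw [← l168_counts _ (Nat.mem_divisors.2 ⟨Nat.gcd_dvd_right n 84, by norm_num⟩), ← Fintype.card_subtype,
      ← Nat.card_eq_fintype_card]
    refine Nat.card_congr (Equiv.subtypeEquivRight fun x => ?_)
    rw [← orderOf_dvd_iff_pow_eq_one, ← orderOf_dvd_iff_pow_eq_one, Nat.dvd_gcd_iff]
    exact ⟨fun hn => ⟨hn, orderOf_dvd_of_pow_eq_one (l168_pow x)⟩, fun hn => hn.1⟩
  hcard := by rw [Nat.card_eq_fintype_card, l168_card]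

def genA : L168 := ⟨!![0, 1, 0; 0, 1, 1; 1, 1, 0], by decide +kernel⟩

def genB : L168 := ⟨!![1, 1, 0; 0, 1, 0; 1, 0, 1], by decide +kernel⟩

theorem l168_not_solvable : ¬ Group.IsSolvable L168 := by
  intro h
  let a := genA
  let b := genB
  have ha : a = ⁅a * a * b⁻¹, a⁻¹ * b * a⁻¹⁆ := by decide +kernel
  have hb : b = ⁅a * b * a⁻¹, a * b * b⁆ := by decide +kernel
  have hne : a ≠ 1 := by decide +kernel
  have key : ∀ n, a ∈ derivedSeries L168 n ∧ b ∈ derivedSeries L168 n := by
    intro n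
    induction n with
    | zero => exact ⟨Subgroup.mem_top _, Subgroup.mem_top _⟩
    | succ n ih =>
      obtain ⟨h1, h2⟩ := ih
      rw [derivedSeries_succ]
      constructor
      · rw [ha]; apply Subgroup.commutator_mem_commutator <;>
          (repeat' first | apply mul_mem | apply inv_mem) <;> assumption
      · rw [hb]; apply Subgroup.commutator_mem_commutator <;>
          (repeat' first | apply mul_mem | apply inv_mem) <;> assumption
  obtain ⟨n, hn⟩ := h.solvable
  exact hne (Subgroup.mem_bot.1 (hn ▸ (key n).1))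

end Cfsg.Lib.OrderType
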