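/-
The ring summands used to build affine groups with prescribed numbers of solutions of `x ^ n = 1`.
-/
import Cfsg.Agent.OrderType.Basic

set_option linter.style.haveILetI false

namespace Cfsg.Lib.OrderType

open Finset

variable {M : Type} [CommGroup M]

namespace Mod

/-- A single summand acted on through the character `ι ∘ φ`. -/
def base {o : ℕ} (R : Type) [CommRing R] [Finite R] (φ : M →* Multiplicative (ZMod o))
    (ι : Multiplicative (ZMod o) →* Rˣ) (hι : Function.Injective ι) (c : ℕ → ℕ) (q : ℕ)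
    (hq : Nat.card R = q) (hc : ∀ n : ℕ, Nat.card {v : R // (n : R) * v = 0} = c n)
    (hs : ∀ (a : Multiplicative (ZMod o)) (n : ℕ), ι a ≠ 1 → ι a ^ n = 1 →
      ∑ i ∈ range n, ((ι a : Rˣ) : R) ^ i = 0) : Mod M where
  R := R
  χ := ι.comp φ
  size := q
  k n t := if φ t = 1 then c n else q
  hsize := hq
  hk n t ht := by
    split_ifs with h
    · rw [← hc n]
      refine Nat.card_congr (Equiv.subtypeEquivRight fun v => ?_)
      rw [MonoidHom.comp_apply, h, map_one, Units.val_one]
      simp
    · rw [← hq]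
      refine Nat.card_congr ((Equiv.subtypeEquivRight fun v => ?_).trans (Equiv.Set.univ R))
      rw [MonoidHom.comp_apply, hs (φ t) n (fun e => h (hι (e.trans ι.map_one.symm)))
        (by rw [← map_pow, ← map_pow, ht, map_one, map_one]), zero_mul]
      exact iff_of_true rfl trivial

/-- The product of two summands. -/
def prod (A B : Mod M) : Mod M where
  R := A.R × B.R
  χ := MulEquiv.prodUnits.symm.toMonoidHom.comp (A.χ.prod B.χ)
  size := A.size * B.size
  k n t := A.k n t * B.k n t
  hsize := by rw [Nat.card_prod, A.hsize, B.hsize]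
  hk n t ht := by
    rw [← A.hk n t ht, ← B.hk n t ht, ← Nat.card_prod]
    have key : ∀ v : A.R × B.R,
        ((∑ i ∈ range n, ((MulEquiv.prodUnits.symm (A.χ t, B.χ t) : (A.R × B.R)ˣ) : A.R × B.R) ^ i) * v = 0) ↔
        ((∑ i ∈ range n, ((A.χ t : A.Rˣ) : A.R) ^ i) * v.1 = 0 ∧
          (∑ i ∈ range n, ((B.χ t : B.Rˣ) : B.R) ^ i) * v.2 = 0) := fun v => by
      rw [Prod.ext_iff, Prod.fst_mul, Prod.snd_mul, Prod.fst_sum, Prod.snd_sum]
      rfl
    refine Nat.card_congr ((Equiv.subtypeEquivRight key).trans ?_)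
    exact Equiv.subtypeProdEquivProd (p := fun a : A.R => (∑ i ∈ range n, ((A.χ t : A.Rˣ) : A.R) ^ i) * a = 0)
      (q := fun b : B.R => (∑ i ∈ range n, ((B.χ t : B.Rˣ) : B.R) ^ i) * b = 0)

end Mod

theorem geom_eq_zero {R : Type} [Field R] (u : Rˣ) (n : ℕ) (hu : u ≠ 1) (hn : u ^ n = 1) :
    ∑ i ∈ range n, (u : R) ^ i = 0 := by
  have h1 : (u : R) ≠ 1 := fun e => hu (Units.ext e)
  rw [geom_sum_eq h1, ← Units.val_pow_eq_pow_val, hn, Units.val_one, sub_self, zero_div]

theorem exists_hom {R : Type} [Field R] [Finite R] {o : ℕ} [NeZero o] (h : o ∣ Nat.card R - 1) :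
    ∃ ι : Multiplicative (ZMod o) →* Rˣ, Function.Injective ι := by
  classical
  haveI := Fintype.ofFinite R
  have hcard : Nat.card Rˣ = Nat.card R - 1 := Nat.card_units R
  obtain ⟨g, hg⟩ := IsCyclic.exists_ofOrder_eq_natCard (α := Rˣ)
  set ζ := g ^ (Nat.card Rˣ / o) with hζ
  have ho : orderOf ζ = o := by
    have hpos : 0 < Nat.card Rˣ := Nat.card_pos
    rw [← hcard] at h
    rw [hζ, orderOf_pow_of_dvd (Nat.div_pos (Nat.le_of_dvd hpos h) (NeZero.pos o)).ne'
      (by rw [hg]; exact Nat.div_dvd_of_dvd h), hg, Nat.div_div_self h hpos.ne']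
  refine ⟨{ toFun := fun a => ζ ^ (Multiplicative.toAdd a).val
            map_one' := by simp
            map_mul' := fun a b => ?_ }, fun a b hab => ?_⟩
  · rw [← pow_add, toAdd_mul, ZMod.val_add]
    conv_rhs => rw [← pow_mod_orderOf, ho]
  · have h1 : ζ ^ (Multiplicative.toAdd a).val = ζ ^ (Multiplicative.toAdd b).val := hab
    rw [pow_inj_mod, ho, Nat.mod_eq_of_lt (ZMod.val_lt _), Nat.mod_eq_of_lt (ZMod.val_lt _)] at h1
    exact Multiplicative.toAdd.injective (ZMod.val_injective _ h1)

namespace Mod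

/-- A finite field acted on by a character of order dividing `o`. -/
noncomputable def field (p k o : ℕ) [Fact p.Prime] [NeZero o] (hk : k ≠ 0) (h : o ∣ p ^ k - 1)
    (φ : M →* Multiplicative (ZMod o)) : Mod M :=
  haveI : Finite (GaloisField p k) := inferInstance
  have hcard : Nat.card (GaloisField p k) = p ^ k := GaloisField.card p k hk
  base (GaloisField p k) φ (exists_hom (R := GaloisField p k) (hcard.symm ▸ h)).choose
    (exists_hom (R := GaloisField p k) (hcard.symm ▸ h)).choose_spec
    (fun n => if n % p = 0 then p ^ k else 1) (p ^ k) hcard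
    (fun n => by
      split_ifs with hn
      · rw [← hcard]
        refine Nat.card_congr ((Equiv.subtypeEquivRight fun v => ?_).trans (Equiv.Set.univ _))
        rw [(CharP.cast_eq_zero_iff (GaloisField p k) p n).2 (Nat.dvd_of_mod_eq_zero hn), zero_mul]
        exact iff_of_true rfl trivial
      · refine Nat.card_eq_one_iff_unique.2 ⟨⟨fun a b => Subtype.ext ?_⟩, ⟨⟨0, mul_zero _⟩⟩⟩
        have h0 : (n : GaloisField p k) ≠ 0 := fun e =>
          hn (Nat.mod_eq_zero_of_dvd ((CharP.cast_eq_zero_iff (GaloisField p k) p n).1 e))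
        rw [(mul_eq_zero.1 a.2).resolve_left h0, (mul_eq_zero.1 b.2).resolve_left h0])
    fun a n => geom_eq_zero _ n

theorem z4_kernel (n : ℕ) : Nat.card {v : ZMod 4 // (n : ZMod 4) * v = 0} = Nat.gcd n 4 := by
  have h : ∀ r : Fin 4, Fintype.card {v : ZMod 4 // ((r : ℕ) : ZMod 4) * v = 0} = Nat.gcd r 4 := by decide
  rw [Nat.card_eq_fintype_card, ← Nat.mod_add_div n 4]
  have h2 := h ⟨n % 4, Nat.mod_lt _ (by norm_num)⟩
  rw [Nat.gcd_add_mul_left_left]
  convert h2 using 4
  simp [show (4 : ZMod 4) = 0 from rfl]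

/-- The integers mod 4 with trivial action. -/
def z4triv : Mod M :=
  base (ZMod 4) (1 : M →* Multiplicative (ZMod 1)) 1 (fun a b _ => Subsingleton.elim a b) (fun n => Nat.gcd n 4) 4
    (by simp) z4_kernel fun a n h => (h rfl).elim

/-- The sign character of order two on the integers mod 4. -/
def z4sign : Multiplicative (ZMod 2) →* (ZMod 4)ˣ :=
  MonoidHom.mk' (fun a => if a = 1 then 1 else -1) (by decide)

/-- The integers mod 4 acted on by signs. -/
def z4 (φ : M →* Multiplicative (ZMod 2)) : Mod M :=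
  base (ZMod 4) φ z4sign (by decide) (fun n => Nat.gcd n 4) 4 (by simp) z4_kernel
    fun a n ha hn => by
      have hu : z4sign a = -1 := (by decide : ∀ a, z4sign a = 1 ∨ z4sign a = -1) a |>.resolve_left ha
      rw [hu] at hn ⊢
      rcases Nat.even_or_odd n with he | ho
      · rw [Units.val_neg, Units.val_one, neg_one_geom_sum, if_pos he]
      · rw [ho.neg_one_pow] at hn
        exact absurd hn (by decide)

end Mod

/-- The abelian groups with up to three cyclic factors that act. -/
abbrev M3 (a b c : ℕ) : Type := Multiplicative (ZMod a × ZMod b × ZMod c)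

end Cfsg.Lib.OrderType
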