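/-
An explicit pair of products of affine groups with the same order type as a power of `PSL(2,7)`.
-/
import Cfsg.Agent.OrderType.Summands
import Cfsg.Agent.OrderType.SimpleFactor

set_option linter.style.haveILetI false

namespace Cfsg.Lib.OrderType.Pair

open Cfsg.Lib.OrderType

private theorem fact7 : Fact (Nat.Prime 7) := ⟨by norm_num⟩
attribute [local instance] fact7

def phi0_0 : M3 3 7 1 →* Multiplicative (ZMod 3) :=
  MonoidHom.mk' (fun t => Multiplicative.ofAdd ((2 : ZMod 3) * ((t.toAdd.1).val : ZMod 3))) (by decide +kernel)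

def phi0_1 : M3 3 7 1 →* Multiplicative (ZMod 21) :=
  MonoidHom.mk' (fun t => Multiplicative.ofAdd ((7 : ZMod 21) * ((t.toAdd.1).val : ZMod 21) + (6 : ZMod 21) * ((t.toAdd.2.1).val : ZMod 21))) (by decide +kernel)

noncomputable def g0 : CGrp :=
  Aff.toCGrp (Mod.prod (Mod.field 2 2 3 (by decide) (by decide) phi0_0)
    (Mod.prod (Mod.field 2 6 21 (by decide) (by decide) phi0_1)
    (Mod.field 2 1 1 (by decide) (by decide) (1 : M3 3 7 1 →* Multiplicative (ZMod 1)))))

theorem solvable0 : Group.IsSolvable g0.carrier := Aff.solvable _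

def phi1_2 : M3 2 2 1 →* Multiplicative (ZMod 2) :=
  MonoidHom.mk' (fun t => Multiplicative.ofAdd ((1 : ZMod 2) * ((t.toAdd.2.1).val : ZMod 2))) (by decide +kernel)

def phi1_3 : M3 2 2 1 →* Multiplicative (ZMod 2) :=
  MonoidHom.mk' (fun t => Multiplicative.ofAdd ((1 : ZMod 2) * ((t.toAdd.1).val : ZMod 2) + (1 : ZMod 2) * ((t.toAdd.2.1).val : ZMod 2))) (by decide +kernel)

def phi1_4 : M3 2 2 1 →* Multiplicative (ZMod 2) :=
  MonoidHom.mk' (fun t => Multiplicative.ofAdd ((1 : ZMod 2) * ((t.toAdd.1).val : ZMod 2))) (by decide +kernel)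

noncomputable def g1 : CGrp :=
  Aff.toCGrp (Mod.prod (Mod.field 7 1 1 (by decide) (by decide) (1 : M3 2 2 1 →* Multiplicative (ZMod 1)))
    (Mod.prod (Mod.z4triv (M := M3 2 2 1))
    (Mod.prod (Mod.z4 phi1_2)
    (Mod.prod (Mod.field 7 1 2 (by decide) (by decide) phi1_3)
    (Mod.field 7 1 2 (by decide) (by decide) phi1_4)))))

theorem solvable1 : Group.IsSolvable g1.carrier := Aff.solvable _

def phi2_0 : M3 2 3 1 →* Multiplicative (ZMod 2) :=
  MonoidHom.mk' (fun t => Multiplicative.ofAdd ((1 : ZMod 2) * ((t.toAdd.1).val : ZMod 2))) (by decide +kernel)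

def phi2_1 : M3 2 3 1 →* Multiplicative (ZMod 6) :=
  MonoidHom.mk' (fun t => Multiplicative.ofAdd ((3 : ZMod 6) * ((t.toAdd.1).val : ZMod 6) + (2 : ZMod 6) * ((t.toAdd.2.1).val : ZMod 6))) (by decide +kernel)

noncomputable def g2 : CGrp :=
  Aff.toCGrp (Mod.prod (Mod.z4 phi2_0)
    (Mod.prod (Mod.field 7 1 6 (by decide) (by decide) phi2_1)
    (Mod.field 2 1 1 (by decide) (by decide) (1 : M3 2 3 1 →* Multiplicative (ZMod 1)))))

theorem solvable2 : Group.IsSolvable g2.carrier := Aff.solvable _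

def phi3_0 : M3 2 2 1 →* Multiplicative (ZMod 2) :=
  MonoidHom.mk' (fun t => Multiplicative.ofAdd ((1 : ZMod 2) * ((t.toAdd.1).val : ZMod 2))) (by decide +kernel)

def phi3_1 : M3 2 2 1 →* Multiplicative (ZMod 2) :=
  MonoidHom.mk' (fun t => Multiplicative.ofAdd ((1 : ZMod 2) * ((t.toAdd.1).val : ZMod 2))) (by decide +kernel)

def phi3_2 : M3 2 2 1 →* Multiplicative (ZMod 2) :=
  MonoidHom.mk' (fun t => Multiplicative.ofAdd ((1 : ZMod 2) * ((t.toAdd.1).val : ZMod 2))) (by decide +kernel)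

def phi3_4 : M3 2 2 1 →* Multiplicative (ZMod 2) :=
  MonoidHom.mk' (fun t => Multiplicative.ofAdd ((1 : ZMod 2) * ((t.toAdd.1).val : ZMod 2))) (by decide +kernel)

def phi3_5 : M3 2 2 1 →* Multiplicative (ZMod 2) :=
  MonoidHom.mk' (fun t => Multiplicative.ofAdd ((1 : ZMod 2) * ((t.toAdd.1).val : ZMod 2))) (by decide +kernel)

def phi3_6 : M3 2 2 1 →* Multiplicative (ZMod 2) :=
  MonoidHom.mk' (fun t => Multiplicative.ofAdd ((1 : ZMod 2) * ((t.toAdd.2.1).val : ZMod 2))) (by decide +kernel)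

noncomputable def g3 : CGrp :=
  Aff.toCGrp (Mod.prod (Mod.field 3 1 2 (by decide) (by decide) phi3_0)
    (Mod.prod (Mod.z4 phi3_1)
    (Mod.prod (Mod.z4 phi3_2)
    (Mod.prod (Mod.field 7 1 1 (by decide) (by decide) (1 : M3 2 2 1 →* Multiplicative (ZMod 1)))
    (Mod.prod (Mod.z4 phi3_4)
    (Mod.prod (Mod.field 7 1 2 (by decide) (by decide) phi3_5)
    (Mod.field 3 1 2 (by decide) (by decide) phi3_6)))))))

theorem solvable3 : Group.IsSolvable g3.carrier := Aff.solvable _

def phi4_0 : M3 3 1 1 →* Multiplicative (ZMod 3) :=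
  MonoidHom.mk' (fun t => Multiplicative.ofAdd ((1 : ZMod 3) * ((t.toAdd.1).val : ZMod 3))) (by decide +kernel)

def phi4_4 : M3 3 1 1 →* Multiplicative (ZMod 3) :=
  MonoidHom.mk' (fun t => Multiplicative.ofAdd ((2 : ZMod 3) * ((t.toAdd.1).val : ZMod 3))) (by decide +kernel)

def phi4_5 : M3 3 1 1 →* Multiplicative (ZMod 3) :=
  MonoidHom.mk' (fun t => Multiplicative.ofAdd ((1 : ZMod 3) * ((t.toAdd.1).val : ZMod 3))) (by decide +kernel)

noncomputable def g4 : CGrp :=
  Aff.toCGrp (Mod.prod (Mod.field 7 1 3 (by decide) (by decide) phi4_0)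
    (Mod.prod (Mod.field 7 1 1 (by decide) (by decide) (1 : M3 3 1 1 →* Multiplicative (ZMod 1)))
    (Mod.prod (Mod.field 3 1 1 (by decide) (by decide) (1 : M3 3 1 1 →* Multiplicative (ZMod 1)))
    (Mod.prod (Mod.field 3 1 1 (by decide) (by decide) (1 : M3 3 1 1 →* Multiplicative (ZMod 1)))
    (Mod.prod (Mod.field 2 2 3 (by decide) (by decide) phi4_4)
    (Mod.field 2 2 3 (by decide) (by decide) phi4_5))))))

theorem solvable4 : Group.IsSolvable g4.carrier := Aff.solvable _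

def phi5_0 : M3 7 1 1 →* Multiplicative (ZMod 7) :=
  MonoidHom.mk' (fun t => Multiplicative.ofAdd ((6 : ZMod 7) * ((t.toAdd.1).val : ZMod 7))) (by decide +kernel)

def phi5_1 : M3 7 1 1 →* Multiplicative (ZMod 7) :=
  MonoidHom.mk' (fun t => Multiplicative.ofAdd ((6 : ZMod 7) * ((t.toAdd.1).val : ZMod 7))) (by decide +kernel)

noncomputable def g5 : CGrp :=
  Aff.toCGrp (Mod.prod (Mod.field 2 3 7 (by decide) (by decide) phi5_0)
    (Mod.prod (Mod.field 2 3 7 (by decide) (by decide) phi5_1)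
    (Mod.field 3 1 1 (by decide) (by decide) (1 : M3 7 1 1 →* Multiplicative (ZMod 1)))))

theorem solvable5 : Group.IsSolvable g5.carrier := Aff.solvable _

def phi6_0 : M3 4 1 1 →* Multiplicative (ZMod 2) :=
  MonoidHom.mk' (fun t => Multiplicative.ofAdd ((1 : ZMod 2) * ((t.toAdd.1).val : ZMod 2))) (by decide +kernel)

def phi6_1 : M3 4 1 1 →* Multiplicative (ZMod 2) :=
  MonoidHom.mk' (fun t => Multiplicative.ofAdd ((1 : ZMod 2) * ((t.toAdd.1).val : ZMod 2))) (by decide +kernel)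

noncomputable def g6 : CGrp :=
  Aff.toCGrp (Mod.prod (Mod.field 7 1 2 (by decide) (by decide) phi6_0)
    (Mod.prod (Mod.field 3 1 2 (by decide) (by decide) phi6_1)
    (Mod.prod (Mod.field 2 1 1 (by decide) (by decide) (1 : M3 4 1 1 →* Multiplicative (ZMod 1)))
    (Mod.z4triv (M := M3 4 1 1)))))

theorem solvable6 : Group.IsSolvable g6.carrier := Aff.solvable _

def phi7_0 : M3 2 1 1 →* Multiplicative (ZMod 2) :=
  MonoidHom.mk' (fun t => Multiplicative.ofAdd ((1 : ZMod 2) * ((t.toAdd.1).val : ZMod 2))) (by decide +kernel)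

def phi7_1 : M3 2 1 1 →* Multiplicative (ZMod 2) :=
  MonoidHom.mk' (fun t => Multiplicative.ofAdd ((1 : ZMod 2) * ((t.toAdd.1).val : ZMod 2))) (by decide +kernel)

noncomputable def g7 : CGrp :=
  Aff.toCGrp (Mod.prod (Mod.field 3 1 2 (by decide) (by decide) phi7_0)
    (Mod.field 7 1 2 (by decide) (by decide) phi7_1))

theorem solvable7 : Group.IsSolvable g7.carrier := Aff.solvable _

def phi8_0 : M3 7 1 1 →* Multiplicative (ZMod 7) :=
  MonoidHom.mk' (fun t => Multiplicative.ofAdd ((6 : ZMod 7) * ((t.toAdd.1).val : ZMod 7))) (by decide +kernel)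

noncomputable def g8 : CGrp :=
  Aff.toCGrp (Mod.field 2 3 7 (by decide) (by decide) phi8_0)

theorem solvable8 : Group.IsSolvable g8.carrier := Aff.solvable _

def phi9_2 : M3 3 1 1 →* Multiplicative (ZMod 3) :=
  MonoidHom.mk' (fun t => Multiplicative.ofAdd ((2 : ZMod 3) * ((t.toAdd.1).val : ZMod 3))) (by decide +kernel)

def phi9_3 : M3 3 1 1 →* Multiplicative (ZMod 3) :=
  MonoidHom.mk' (fun t => Multiplicative.ofAdd ((2 : ZMod 3) * ((t.toAdd.1).val : ZMod 3))) (by decide +kernel)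

noncomputable def g9 : CGrp :=
  Aff.toCGrp (Mod.prod (Mod.field 3 1 1 (by decide) (by decide) (1 : M3 3 1 1 →* Multiplicative (ZMod 1)))
    (Mod.prod (Mod.field 3 1 1 (by decide) (by decide) (1 : M3 3 1 1 →* Multiplicative (ZMod 1)))
    (Mod.prod (Mod.field 2 2 3 (by decide) (by decide) phi9_2)
    (Mod.field 7 1 3 (by decide) (by decide) phi9_3))))

theorem solvable9 : Group.IsSolvable g9.carrier := Aff.solvable _

def phi10_0 : M3 2 1 1 →* Multiplicative (ZMod 2) :=
  MonoidHom.mk' (fun t => Multiplicative.ofAdd ((1 : ZMod 2) * ((t.toAdd.1).val : ZMod 2))) (by decide +kernel)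

def phi10_1 : M3 2 1 1 →* Multiplicative (ZMod 2) :=
  MonoidHom.mk' (fun t => Multiplicative.ofAdd ((1 : ZMod 2) * ((t.toAdd.1).val : ZMod 2))) (by decide +kernel)

def phi10_3 : M3 2 1 1 →* Multiplicative (ZMod 2) :=
  MonoidHom.mk' (fun t => Multiplicative.ofAdd ((1 : ZMod 2) * ((t.toAdd.1).val : ZMod 2))) (by decide +kernel)

def phi10_4 : M3 2 1 1 →* Multiplicative (ZMod 2) :=
  MonoidHom.mk' (fun t => Multiplicative.ofAdd ((1 : ZMod 2) * ((t.toAdd.1).val : ZMod 2))) (by decide +kernel)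

noncomputable def g10 : CGrp :=
  Aff.toCGrp (Mod.prod (Mod.z4 phi10_0)
    (Mod.prod (Mod.z4 phi10_1)
    (Mod.prod (Mod.z4triv (M := M3 2 1 1))
    (Mod.prod (Mod.z4 phi10_3)
    (Mod.prod (Mod.field 3 1 2 (by decide) (by decide) phi10_4)
    (Mod.z4triv (M := M3 2 1 1)))))))

theorem solvable10 : Group.IsSolvable g10.carrier := Aff.solvable _

def phi11_0 : M3 2 1 1 →* Multiplicative (ZMod 2) :=
  MonoidHom.mk' (fun t => Multiplicative.ofAdd ((1 : ZMod 2) * ((t.toAdd.1).val : ZMod 2))) (by decide +kernel)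

def phi11_3 : M3 2 1 1 →* Multiplicative (ZMod 2) :=
  MonoidHom.mk' (fun t => Multiplicative.ofAdd ((1 : ZMod 2) * ((t.toAdd.1).val : ZMod 2))) (by decide +kernel)

noncomputable def g11 : CGrp :=
  Aff.toCGrp (Mod.prod (Mod.field 7 1 2 (by decide) (by decide) phi11_0)
    (Mod.prod (Mod.field 7 1 1 (by decide) (by decide) (1 : M3 2 1 1 →* Multiplicative (ZMod 1)))
    (Mod.prod (Mod.field 7 1 1 (by decide) (by decide) (1 : M3 2 1 1 →* Multiplicative (ZMod 1)))
    (Mod.prod (Mod.z4 phi11_3)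
    (Mod.field 2 1 1 (by decide) (by decide) (1 : M3 2 1 1 →* Multiplicative (ZMod 1)))))))

theorem solvable11 : Group.IsSolvable g11.carrier := Aff.solvable _

def phi12_0 : M3 3 4 1 →* Multiplicative (ZMod 6) :=
  MonoidHom.mk' (fun t => Multiplicative.ofAdd ((4 : ZMod 6) * ((t.toAdd.1).val : ZMod 6) + (3 : ZMod 6) * ((t.toAdd.2.1).val : ZMod 6))) (by decide +kernel)

noncomputable def g12 : CGrp :=
  Aff.toCGrp (Mod.field 7 1 6 (by decide) (by decide) phi12_0)

theorem solvable12 : Group.IsSolvable g12.carrier := Aff.solvable _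

noncomputable def g13 : CGrp :=
  Aff.toCGrp (Mod.prod (Mod.field 2 1 1 (by decide) (by decide) (1 : M3 1 1 1 →* Multiplicative (ZMod 1)))
    (Mod.prod (Mod.field 3 1 1 (by decide) (by decide) (1 : M3 1 1 1 →* Multiplicative (ZMod 1)))
    (Mod.prod (Mod.field 3 1 1 (by decide) (by decide) (1 : M3 1 1 1 →* Multiplicative (ZMod 1)))
    (Mod.prod (Mod.field 3 1 1 (by decide) (by decide) (1 : M3 1 1 1 →* Multiplicative (ZMod 1)))
    (Mod.field 2 1 1 (by decide) (by decide) (1 : M3 1 1 1 →* Multiplicative (ZMod 1)))))))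

theorem solvable13 : Group.IsSolvable g13.carrier := Aff.solvable _

def phi14_2 : M3 2 1 1 →* Multiplicative (ZMod 2) :=
  MonoidHom.mk' (fun t => Multiplicative.ofAdd ((1 : ZMod 2) * ((t.toAdd.1).val : ZMod 2))) (by decide +kernel)

noncomputable def g14 : CGrp :=
  Aff.toCGrp (Mod.prod (Mod.field 3 1 1 (by decide) (by decide) (1 : M3 2 1 1 →* Multiplicative (ZMod 1)))
    (Mod.prod (Mod.field 3 1 1 (by decide) (by decide) (1 : M3 2 1 1 →* Multiplicative (ZMod 1)))
    (Mod.z4 phi14_2)))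

theorem solvable14 : Group.IsSolvable g14.carrier := Aff.solvable _

def phi15_0 : M3 3 1 1 →* Multiplicative (ZMod 3) :=
  MonoidHom.mk' (fun t => Multiplicative.ofAdd ((2 : ZMod 3) * ((t.toAdd.1).val : ZMod 3))) (by decide +kernel)

noncomputable def g15 : CGrp :=
  Aff.toCGrp (Mod.prod (Mod.field 2 2 3 (by decide) (by decide) phi15_0)
    (Mod.prod (Mod.field 3 1 1 (by decide) (by decide) (1 : M3 3 1 1 →* Multiplicative (ZMod 1)))
    (Mod.z4triv (M := M3 3 1 1))))

theorem solvable15 : Group.IsSolvable g15.carrier := Aff.solvable _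

def phi16_0 : M3 2 2 1 →* Multiplicative (ZMod 2) :=
  MonoidHom.mk' (fun t => Multiplicative.ofAdd ((1 : ZMod 2) * ((t.toAdd.2.1).val : ZMod 2))) (by decide +kernel)

def phi16_1 : M3 2 2 1 →* Multiplicative (ZMod 2) :=
  MonoidHom.mk' (fun t => Multiplicative.ofAdd ((1 : ZMod 2) * ((t.toAdd.1).val : ZMod 2))) (by decide +kernel)

def phi16_2 : M3 2 2 1 →* Multiplicative (ZMod 2) :=
  MonoidHom.mk' (fun t => Multiplicative.ofAdd ((1 : ZMod 2) * ((t.toAdd.1).val : ZMod 2))) (by decide +kernel)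

def phi16_3 : M3 2 2 1 →* Multiplicative (ZMod 2) :=
  MonoidHom.mk' (fun t => Multiplicative.ofAdd ((1 : ZMod 2) * ((t.toAdd.1).val : ZMod 2) + (1 : ZMod 2) * ((t.toAdd.2.1).val : ZMod 2))) (by decide +kernel)

noncomputable def g16 : CGrp :=
  Aff.toCGrp (Mod.prod (Mod.field 3 1 2 (by decide) (by decide) phi16_0)
    (Mod.prod (Mod.field 7 1 2 (by decide) (by decide) phi16_1)
    (Mod.prod (Mod.field 7 1 2 (by decide) (by decide) phi16_2)
    (Mod.field 7 1 2 (by decide) (by decide) phi16_3))))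

theorem solvable16 : Group.IsSolvable g16.carrier := Aff.solvable _

def phi17_2 : M3 2 3 1 →* Multiplicative (ZMod 6) :=
  MonoidHom.mk' (fun t => Multiplicative.ofAdd ((3 : ZMod 6) * ((t.toAdd.1).val : ZMod 6) + (2 : ZMod 6) * ((t.toAdd.2.1).val : ZMod 6))) (by decide +kernel)

noncomputable def g17 : CGrp :=
  Aff.toCGrp (Mod.prod (Mod.field 2 1 1 (by decide) (by decide) (1 : M3 2 3 1 →* Multiplicative (ZMod 1)))
    (Mod.prod (Mod.field 2 1 1 (by decide) (by decide) (1 : M3 2 3 1 →* Multiplicative (ZMod 1)))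
    (Mod.field 7 1 6 (by decide) (by decide) phi17_2)))

theorem solvable17 : Group.IsSolvable g17.carrier := Aff.solvable _

def phi18_0 : M3 2 2 2 →* Multiplicative (ZMod 2) :=
  MonoidHom.mk' (fun t => Multiplicative.ofAdd ((1 : ZMod 2) * ((t.toAdd.1).val : ZMod 2) + (1 : ZMod 2) * ((t.toAdd.2.1).val : ZMod 2) + (1 : ZMod 2) * ((t.toAdd.2.2).val : ZMod 2))) (by decide +kernel)

def phi18_1 : M3 2 2 2 →* Multiplicative (ZMod 2) :=
  MonoidHom.mk' (fun t => Multiplicative.ofAdd ((1 : ZMod 2) * ((t.toAdd.1).val : ZMod 2) + (1 : ZMod 2) * ((t.toAdd.2.1).val : ZMod 2) + (1 : ZMod 2) * ((t.toAdd.2.2).val : ZMod 2))) (by decide +kernel)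

def phi18_2 : M3 2 2 2 →* Multiplicative (ZMod 2) :=
  MonoidHom.mk' (fun t => Multiplicative.ofAdd ((1 : ZMod 2) * ((t.toAdd.1).val : ZMod 2) + (1 : ZMod 2) * ((t.toAdd.2.1).val : ZMod 2))) (by decide +kernel)

def phi18_5 : M3 2 2 2 →* Multiplicative (ZMod 2) :=
  MonoidHom.mk' (fun t => Multiplicative.ofAdd ((1 : ZMod 2) * ((t.toAdd.2.2).val : ZMod 2))) (by decide +kernel)

noncomputable def g18 : CGrp :=
  Aff.toCGrp (Mod.prod (Mod.field 3 1 2 (by decide) (by decide) phi18_0)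
    (Mod.prod (Mod.field 3 1 2 (by decide) (by decide) phi18_1)
    (Mod.prod (Mod.field 7 1 2 (by decide) (by decide) phi18_2)
    (Mod.prod (Mod.field 7 1 1 (by decide) (by decide) (1 : M3 2 2 2 →* Multiplicative (ZMod 1)))
    (Mod.prod (Mod.field 7 1 1 (by decide) (by decide) (1 : M3 2 2 2 →* Multiplicative (ZMod 1)))
    (Mod.z4 phi18_5))))))

theorem solvable18 : Group.IsSolvable g18.carrier := Aff.solvable _

def phi19_0 : M3 2 1 1 →* Multiplicative (ZMod 2) :=
  MonoidHom.mk' (fun t => Multiplicative.ofAdd ((1 : ZMod 2) * ((t.toAdd.1).val : ZMod 2))) (by decide +kernel)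

def phi19_1 : M3 2 1 1 →* Multiplicative (ZMod 2) :=
  MonoidHom.mk' (fun t => Multiplicative.ofAdd ((1 : ZMod 2) * ((t.toAdd.1).val : ZMod 2))) (by decide +kernel)

noncomputable def g19 : CGrp :=
  Aff.toCGrp (Mod.prod (Mod.field 3 1 2 (by decide) (by decide) phi19_0)
    (Mod.field 3 1 2 (by decide) (by decide) phi19_1))

theorem solvable19 : Group.IsSolvable g19.carrier := Aff.solvable _

def phi20_2 : M3 3 1 1 →* Multiplicative (ZMod 3) :=
  MonoidHom.mk' (fun t => Multiplicative.ofAdd ((2 : ZMod 3) * ((t.toAdd.1).val : ZMod 3))) (by decide +kernel)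

def phi20_3 : M3 3 1 1 →* Multiplicative (ZMod 3) :=
  MonoidHom.mk' (fun t => Multiplicative.ofAdd ((2 : ZMod 3) * ((t.toAdd.1).val : ZMod 3))) (by decide +kernel)

noncomputable def g20 : CGrp :=
  Aff.toCGrp (Mod.prod (Mod.field 7 1 1 (by decide) (by decide) (1 : M3 3 1 1 →* Multiplicative (ZMod 1)))
    (Mod.prod (Mod.field 3 1 1 (by decide) (by decide) (1 : M3 3 1 1 →* Multiplicative (ZMod 1)))
    (Mod.prod (Mod.field 7 1 3 (by decide) (by decide) phi20_2)
    (Mod.field 7 1 3 (by decide) (by decide) phi20_3))))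

theorem solvable20 : Group.IsSolvable g20.carrier := Aff.solvable _

def phi21_0 : M3 3 3 1 →* Multiplicative (ZMod 3) :=
  MonoidHom.mk' (fun t => Multiplicative.ofAdd ((2 : ZMod 3) * ((t.toAdd.1).val : ZMod 3) + (2 : ZMod 3) * ((t.toAdd.2.1).val : ZMod 3))) (by decide +kernel)

def phi21_4 : M3 3 3 1 →* Multiplicative (ZMod 3) :=
  MonoidHom.mk' (fun t => Multiplicative.ofAdd ((1 : ZMod 3) * ((t.toAdd.1).val : ZMod 3))) (by decide +kernel)

def phi21_5 : M3 3 3 1 →* Multiplicative (ZMod 3) :=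
  MonoidHom.mk' (fun t => Multiplicative.ofAdd ((1 : ZMod 3) * ((t.toAdd.1).val : ZMod 3))) (by decide +kernel)

def phi21_6 : M3 3 3 1 →* Multiplicative (ZMod 3) :=
  MonoidHom.mk' (fun t => Multiplicative.ofAdd ((2 : ZMod 3) * ((t.toAdd.2.1).val : ZMod 3))) (by decide +kernel)

def phi21_7 : M3 3 3 1 →* Multiplicative (ZMod 3) :=
  MonoidHom.mk' (fun t => Multiplicative.ofAdd ((2 : ZMod 3) * ((t.toAdd.2.1).val : ZMod 3))) (by decide +kernel)

def phi21_9 : M3 3 3 1 →* Multiplicative (ZMod 3) :=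
  MonoidHom.mk' (fun t => Multiplicative.ofAdd ((2 : ZMod 3) * ((t.toAdd.1).val : ZMod 3) + (1 : ZMod 3) * ((t.toAdd.2.1).val : ZMod 3))) (by decide +kernel)

def phi21_10 : M3 3 3 1 →* Multiplicative (ZMod 3) :=
  MonoidHom.mk' (fun t => Multiplicative.ofAdd ((2 : ZMod 3) * ((t.toAdd.1).val : ZMod 3) + (1 : ZMod 3) * ((t.toAdd.2.1).val : ZMod 3))) (by decide +kernel)

noncomputable def g21 : CGrp :=
  Aff.toCGrp (Mod.prod (Mod.field 7 1 3 (by decide) (by decide) phi21_0)
    (Mod.prod (Mod.field 2 1 1 (by decide) (by decide) (1 : M3 3 3 1 →* Multiplicative (ZMod 1)))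
    (Mod.prod (Mod.field 2 1 1 (by decide) (by decide) (1 : M3 3 3 1 →* Multiplicative (ZMod 1)))
    (Mod.prod (Mod.field 2 1 1 (by decide) (by decide) (1 : M3 3 3 1 →* Multiplicative (ZMod 1)))
    (Mod.prod (Mod.field 2 2 3 (by decide) (by decide) phi21_4)
    (Mod.prod (Mod.field 2 2 3 (by decide) (by decide) phi21_5)
    (Mod.prod (Mod.field 7 1 3 (by decide) (by decide) phi21_6)
    (Mod.prod (Mod.field 7 1 3 (by decide) (by decide) phi21_7)
    (Mod.prod (Mod.z4triv (M := M3 3 3 1))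
    (Mod.prod (Mod.field 2 2 3 (by decide) (by decide) phi21_9)
    (Mod.field 2 2 3 (by decide) (by decide) phi21_10)))))))))))

theorem solvable21 : Group.IsSolvable g21.carrier := Aff.solvable _

def phi22_0 : M3 3 1 1 →* Multiplicative (ZMod 3) :=
  MonoidHom.mk' (fun t => Multiplicative.ofAdd ((2 : ZMod 3) * ((t.toAdd.1).val : ZMod 3))) (by decide +kernel)

def phi22_1 : M3 3 1 1 →* Multiplicative (ZMod 3) :=
  MonoidHom.mk' (fun t => Multiplicative.ofAdd ((2 : ZMod 3) * ((t.toAdd.1).val : ZMod 3))) (by decide +kernel)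

noncomputable def g22 : CGrp :=
  Aff.toCGrp (Mod.prod (Mod.field 2 2 3 (by decide) (by decide) phi22_0)
    (Mod.prod (Mod.field 2 2 3 (by decide) (by decide) phi22_1)
    (Mod.prod (Mod.field 3 1 1 (by decide) (by decide) (1 : M3 3 1 1 →* Multiplicative (ZMod 1)))
    (Mod.prod (Mod.field 3 1 1 (by decide) (by decide) (1 : M3 3 1 1 →* Multiplicative (ZMod 1)))
    (Mod.z4triv (M := M3 3 1 1))))))

theorem solvable22 : Group.IsSolvable g22.carrier := Aff.solvable _

noncomputable def g23 : CGrp :=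
  Aff.toCGrp (Mod.field 7 1 1 (by decide) (by decide) (1 : M3 1 1 1 →* Multiplicative (ZMod 1)))

theorem solvable23 : Group.IsSolvable g23.carrier := Aff.solvable _

def phi24_0 : M3 2 1 1 →* Multiplicative (ZMod 2) :=
  MonoidHom.mk' (fun t => Multiplicative.ofAdd ((1 : ZMod 2) * ((t.toAdd.1).val : ZMod 2))) (by decide +kernel)

noncomputable def g24 : CGrp :=
  Aff.toCGrp (Mod.field 3 1 2 (by decide) (by decide) phi24_0)

theorem solvable24 : Group.IsSolvable g24.carrier := Aff.solvable _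

def phi25_0 : M3 4 1 1 →* Multiplicative (ZMod 2) :=
  MonoidHom.mk' (fun t => Multiplicative.ofAdd ((1 : ZMod 2) * ((t.toAdd.1).val : ZMod 2))) (by decide +kernel)

noncomputable def g25 : CGrp :=
  Aff.toCGrp (Mod.field 3 1 2 (by decide) (by decide) phi25_0)

theorem solvable25 : Group.IsSolvable g25.carrier := Aff.solvable _

def phi26_1 : M3 2 1 1 →* Multiplicative (ZMod 2) :=
  MonoidHom.mk' (fun t => Multiplicative.ofAdd ((1 : ZMod 2) * ((t.toAdd.1).val : ZMod 2))) (by decide +kernel)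

noncomputable def g26 : CGrp :=
  Aff.toCGrp (Mod.prod (Mod.field 2 1 1 (by decide) (by decide) (1 : M3 2 1 1 →* Multiplicative (ZMod 1)))
    (Mod.prod (Mod.field 7 1 2 (by decide) (by decide) phi26_1)
    (Mod.prod (Mod.z4triv (M := M3 2 1 1))
    (Mod.prod (Mod.field 2 1 1 (by decide) (by decide) (1 : M3 2 1 1 →* Multiplicative (ZMod 1)))
    (Mod.field 2 1 1 (by decide) (by decide) (1 : M3 2 1 1 →* Multiplicative (ZMod 1)))))))

theorem solvable26 : Group.IsSolvable g26.carrier := Aff.solvable _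

noncomputable def g27 : CGrp :=
  Aff.toCGrp (Mod.prod (Mod.z4triv (M := M3 1 1 1))
    (Mod.prod (Mod.z4triv (M := M3 1 1 1))
    (Mod.prod (Mod.z4triv (M := M3 1 1 1))
    (Mod.field 2 1 1 (by decide) (by decide) (1 : M3 1 1 1 →* Multiplicative (ZMod 1))))))

theorem solvable27 : Group.IsSolvable g27.carrier := Aff.solvable _

def phi28_0 : M3 2 1 1 →* Multiplicative (ZMod 2) :=
  MonoidHom.mk' (fun t => Multiplicative.ofAdd ((1 : ZMod 2) * ((t.toAdd.1).val : ZMod 2))) (by decide +kernel)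

def phi28_2 : M3 2 1 1 →* Multiplicative (ZMod 2) :=
  MonoidHom.mk' (fun t => Multiplicative.ofAdd ((1 : ZMod 2) * ((t.toAdd.1).val : ZMod 2))) (by decide +kernel)

noncomputable def g28 : CGrp :=
  Aff.toCGrp (Mod.prod (Mod.field 7 1 2 (by decide) (by decide) phi28_0)
    (Mod.prod (Mod.z4triv (M := M3 2 1 1))
    (Mod.field 7 1 2 (by decide) (by decide) phi28_2)))

theorem solvable28 : Group.IsSolvable g28.carrier := Aff.solvable _

def phi29_1 : M3 2 1 1 →* Multiplicative (ZMod 2) :=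
  MonoidHom.mk' (fun t => Multiplicative.ofAdd ((1 : ZMod 2) * ((t.toAdd.1).val : ZMod 2))) (by decide +kernel)

def phi29_2 : M3 2 1 1 →* Multiplicative (ZMod 2) :=
  MonoidHom.mk' (fun t => Multiplicative.ofAdd ((1 : ZMod 2) * ((t.toAdd.1).val : ZMod 2))) (by decide +kernel)

def phi29_3 : M3 2 1 1 →* Multiplicative (ZMod 2) :=
  MonoidHom.mk' (fun t => Multiplicative.ofAdd ((1 : ZMod 2) * ((t.toAdd.1).val : ZMod 2))) (by decide +kernel)

noncomputable def g29 : CGrp :=
  Aff.toCGrp (Mod.prod (Mod.field 3 1 1 (by decide) (by decide) (1 : M3 2 1 1 →* Multiplicative (ZMod 1)))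
    (Mod.prod (Mod.field 7 1 2 (by decide) (by decide) phi29_1)
    (Mod.prod (Mod.field 3 1 2 (by decide) (by decide) phi29_2)
    (Mod.prod (Mod.field 3 1 2 (by decide) (by decide) phi29_3)
    (Mod.prod (Mod.field 2 1 1 (by decide) (by decide) (1 : M3 2 1 1 →* Multiplicative (ZMod 1)))
    (Mod.field 2 1 1 (by decide) (by decide) (1 : M3 2 1 1 →* Multiplicative (ZMod 1))))))))

theorem solvable29 : Group.IsSolvable g29.carrier := Aff.solvable _

noncomputable def g30 : CGrp :=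
  Aff.toCGrp (Mod.prod (Mod.field 3 1 1 (by decide) (by decide) (1 : M3 1 1 1 →* Multiplicative (ZMod 1)))
    (Mod.field 3 1 1 (by decide) (by decide) (1 : M3 1 1 1 →* Multiplicative (ZMod 1))))

theorem solvable30 : Group.IsSolvable g30.carrier := Aff.solvable _

/-- The factors of the solvable group. -/
noncomputable def posList : List (CGrp × ℕ) :=
  [(g1, 6), (g2, 3), (g4, 12), (g5, 6), (g7, 6), (g8, 6), (g9, 12), (g10, 6), (g12, 3), (g13, 20), (g15, 6), (g18, 6), (g20, 6), (g24, 21), (g25, 6), (g28, 18), (g29, 36)]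

/-- The factors of the other group. -/
noncomputable def negList : List (CGrp × ℕ) :=
  (simpleFactor, 6) :: [(g0, 6), (g3, 3), (g6, 3), (g11, 9), (g14, 6), (g16, 24), (g17, 6), (g19, 42), (g21, 6), (g22, 6), (g23, 21), (g26, 21), (g27, 4), (g30, 75)]

theorem pos_solvable : ∀ x ∈ posList, Group.IsSolvable x.1.carrier := by
  simp only [posList, List.forall_mem_cons, List.not_mem_nil, false_implies, implies_true, and_true]
  exact ⟨solvable1, solvable2, solvable4, solvable5, solvable7, solvable8, solvable9, solvable10, solvable12, solvable13, solvable15, solvable18, solvable20, solvable24, solvable25, solvable28, solvable29⟩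

theorem f_eq (d : ℕ) (hd : d ∈ Nat.divisors 84) :
    (posList.map fun x => x.1.f d ^ x.2).prod = (negList.map fun x => x.1.f d ^ x.2).prod := by
  revert d
  decide +kernel

theorem f_top : (posList.map fun x => x.1.f 84 ^ x.2).prod = (posList.map fun x => x.1.card ^ x.2).prod ∧
    (negList.map fun x => x.1.f 84 ^ x.2).prod = (negList.map fun x => x.1.card ^ x.2).prod := by
  decide +kernel

end Cfsg.Lib.OrderType.Pair
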