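/-
A solvable and a non-solvable group with the same order type.
-/
import Cfsg.Agent.OrderType.Pair

set_option linter.style.haveILetI false

namespace Cfsg.Lib.OrderType

open CGrp

theorem same_order_type :
    ∃ (G : Type) (_ : Group G) (_ : Finite G) (H : Type) (_ : Group H) (_ : Finite H),
      Group.IsSolvable G ∧ ¬ Group.IsSolvable H ∧
        ∀ n : ℕ, Nat.card {g : G // orderOf g = n} = Nat.card {h : H // orderOf h = n} := by
  set A := bigProd Pair.posList
  set B := bigProd Pair.negList
  refine ⟨A.carrier, A.group, A.fin, B.carrier, B.group, B.fin, solvable_bigProd _ Pair.pos_solvable, ?_, ?_⟩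
  · intro hB
    have h1 : ∀ (C D : CGrp), Group.IsSolvable (C.prod D).carrier → Group.IsSolvable C.carrier := fun C D h => by
      haveI : Group.IsSolvable (C.carrier × D.carrier) := h
      exact Group.isSolvable_of_surjective (f := MonoidHom.fst C.carrier D.carrier) Prod.fst_surjective
    have h2 : ∀ (C : CGrp) (e : ℕ), Group.IsSolvable (C.pow (e + 1)).carrier → Group.IsSolvable C.carrier :=
      fun C e h => by
        haveI : Group.IsSolvable ((C.pow e).carrier × C.carrier) := h
        exact Group.isSolvable_of_surjective (f := MonoidHom.snd (C.pow e).carrier C.carrier) Prod.snd_surjective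
    exact l168_not_solvable (h2 simpleFactor _ (h1 _ _ hB))
  · refine card_orderOf_eq A B fun n => ?_
    have hA : A.f 84 = A.card := by rw [bigProd_f, bigProd_card]; exact Pair.f_top.1
    have hB : B.f 84 = B.card := by rw [bigProd_f, bigProd_card]; exact Pair.f_top.2
    rw [A.f_eq_gcd hA n, B.f_eq_gcd hB n, bigProd_f, bigProd_f]
    exact Pair.f_eq _ (Nat.mem_divisors.2 ⟨Nat.gcd_dvd_right n 84, by norm_num⟩)

end Cfsg.Lib.OrderType
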