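import Cfsg.Agent.OrderType.Basic
import Cfsg.Agent.Frobenius.Kernel
import Cfsg.Agent.Frobenius.FpfGroups
import Cfsg.Agent.Supersolvable.RankTwo
import Cfsg.Agent.Coprime.Fitting
import Cfsg.Agent.Components.Cores
import Cfsg.Agent.Components.GenFitting
import Cfsg.Agent.Chars.Burnside

/-!
Thompson's same-order-type question for Frobenius groups.
-/

set_option linter.style.haveILetI false
set_option linter.unusedSectionVars false

namespace Cfsg.Lib.OrderType

open Subgroup Cfsg.Lib.Frobenius

universe u v

variable {F : Type u} [Group F] [Finite F] {G : Type v} [Group G] [Finite G]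

theorem card_coprime_kernel {C : Subgroup F} (hC : IsFrobeniusComplement C) {K : Subgroup F}
    (hc : K.IsComplement' C) : (Nat.card K).Coprime (Nat.card C) := by
  rw [← hc.index_eq_card]
  obtain ⟨c, hd⟩ := card_dvd_card_kernel_sub_one hC
  refine Nat.coprime_of_dvd fun q hq ha hb => hq.not_dvd_one ?_
  have h1 : q ∣ C.index - 1 := hd ▸ hb.mul_right c
  have h2 : 0 < C.index := Nat.pos_of_ne_zero C.index_ne_zero_of_finite
  have := Nat.dvd_sub ha h1
  rwa [show C.index - (C.index - 1) = 1 by omega] at this

theorem orderOf_dvd_kernel_or_complement {C : Subgroup F}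
    {K : Subgroup F} (hK : (K : Set F) = frobeniusKernel C) (g : F) :
    orderOf g ∣ Nat.card K ∨ orderOf g ∣ Nat.card C := by
  by_cases hg : g ∈ frobeniusKernel C
  · left
    have hgK : g ∈ K := by rw [← SetLike.mem_coe, hK]; exact hg
    rw [← Subgroup.orderOf_mk g hgK]
    exact orderOf_dvd_natCard _
  · right
    simp only [Cfsg.frobeniusKernel, Set.mem_setOf_eq, not_or, not_forall, not_not] at hg
    obtain ⟨-, a, ha⟩ := hg
    have ha' : a⁻¹ * g * a ∈ C := Cfsg.Lib.Coprime.mem_conjMap.mp ha
    have ho : orderOf (a⁻¹ * g * a) = orderOf g := by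
      have h := MulEquiv.orderOf_eq (MulAut.conj a⁻¹) g
      simpa [MulAut.conj_apply] using h
    rw [← ho, ← Subgroup.orderOf_mk _ ha']
    exact orderOf_dvd_natCard _

theorem exists_normal_nilpotent {m : ℕ} (hm : m ≠ 0)
    (h : ∀ r : ℕ, ∀ _ : Fact r.Prime, r ∣ m → ∀ P : Sylow r G, (P : Subgroup G).Normal)
    (hfac : ∀ r : ℕ, r.Prime → r ∣ m → m.factorization r = (Nat.card G).factorization r) :
    ∃ M : Subgroup G, M.Normal ∧ Group.IsNilpotent M ∧ Nat.card M = m := by
  suffices hs : ∀ s : Finset ℕ, (∀ r ∈ s, r.Prime ∧ r ∣ m) → ∃ M : Subgroup G,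
      M.Normal ∧ M ≤ fittingSubgroup G ∧ Nat.card M = ∏ r ∈ s, r ^ m.factorization r by
    obtain ⟨M, hM, hMF, hMc⟩ := hs m.primeFactors fun r hr =>
      ⟨Nat.prime_of_mem_primeFactors hr, Nat.dvd_of_mem_primeFactors hr⟩
    haveI := Cfsg.Lib.Components.isNilpotent_fitting (G := G)
    refine ⟨M, hM, ?_, hMc.trans ?_⟩
    · exact Cfsg.Lib.Components.isNilpotent_of_le Cfsg.Lib.Components.isNilpotent_fitting hMF
    · conv_rhs => rw [← Nat.prod_factorization_pow_eq_self hm]
      rfl
  intro s
  induction s using Finset.induction_on with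
  | empty => exact fun _ => ⟨⊥, inferInstance, bot_le, by simp⟩
  | @insert r s hr ih =>
    intro hrs
    obtain ⟨M, hM, hMF, hMc⟩ := ih fun x hx => hrs x (Finset.mem_insert_of_mem hx)
    obtain ⟨hrp, hrm⟩ := hrs r (Finset.mem_insert_self r s)
    haveI := Fact.mk hrp
    haveI := hM
    obtain ⟨P⟩ : Nonempty (Sylow r G) := inferInstance
    haveI hP := h r ⟨hrp⟩ hrm P
    refine ⟨M ⊔ P, inferInstance, sup_le hMF (Cfsg.Lib.Components.le_fitting (N := (P : Subgroup G)) P.2.isNilpotent), ?_⟩
    rw [Finset.prod_insert hr, Cfsg.Lib.Coprime.card_sup_of_inf_eq_bot le_normalizer_of_normal, hMc,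
      P.card_eq_multiplicity, hfac r hrp hrm, mul_comm]
    refine Cfsg.Lib.Coprime.inf_eq_bot_of_coprime ?_
    rw [hMc, P.card_eq_multiplicity]
    refine Nat.Coprime.pow_right _ (Nat.Coprime.prod_left fun x hx => ?_)
    refine Nat.Coprime.pow_left _ ((Nat.coprime_primes (hrs x (Finset.mem_insert_of_mem hx)).1 hrp).mpr ?_)
    rintro rfl
    exact hr hx

/-- A group with the order type of a Frobenius group is a Frobenius group. -/
theorem frobenius_of_orderType
    (hT : ∀ m : ℕ, Nat.card {g : F // orderOf g = m} = Nat.card {h : G // orderOf h = m})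
    {C : Subgroup F} (hC : IsFrobeniusComplement C) :
    ∃ D : Subgroup G, IsFrobeniusComplement D := by
  obtain ⟨K, hK, hKn, hKc⟩ := exists_kernel hC
  haveI := hKn
  haveI hKnil := isNilpotent_kernel hC hK
  have hcop := card_coprime_kernel hC hKc
  have hcard := card_eq hT
  have hKi : K.index = Nat.card C := hKc.symm.index_eq_card
  have hfac : ∀ r : ℕ, r.Prime → r ∣ Nat.card K →
      (Nat.card K).factorization r = (Nat.card F).factorization r := fun r hr hrK => by
    rw [← K.card_mul_index, hKi, Nat.factorization_mul Nat.card_pos.ne' Nat.card_pos.ne',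
      Finsupp.add_apply, Nat.factorization_eq_zero_of_not_dvd (n := Nat.card C) fun h =>
        hr.not_dvd_one (hcop ▸ Nat.dvd_gcd hrK h), add_zero]
  obtain ⟨M, hMn, -, hMc⟩ := exists_normal_nilpotent (G := G) (m := Nat.card K) Nat.card_pos.ne'
    (fun r _ hr P => by
      obtain ⟨Q⟩ : Nonempty (Sylow r K) := inferInstance
      haveI : (Q : Subgroup K).Normal :=
        ((Group.isNilpotent_of_finite_tfae (G := K)).out 0 3 rfl rfl).mp hKnil r ‹_› Q
      haveI : (Q : Subgroup K).Characteristic := Q.characteristic_of_normal inferInstance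
      have hc : Nat.card ((Q : Subgroup K).map K.subtype) = r ^ (Nat.card F).factorization r := by
        rw [card_subtype, Q.card_eq_multiplicity, hfac r Fact.out hr]
      refine normal_of_same_orderType hT ((Q : Subgroup K).map K.subtype) ?_ (P : Subgroup G) ?_
      · rw [card_subtype, index_map_subtype, hKi]
        exact Nat.Coprime.mul_right Q.card_coprime_index
          (hcop.coprime_dvd_left (card_subgroup_dvd_card _))
      · rw [hc, P.card_eq_multiplicity, hcard])
    (fun r hr hrK => by rw [hfac r hr hrK, hcard])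
  haveI := hMn
  have hMi : M.index = Nat.card C := by
    have h := M.card_mul_index
    rw [hMc, ← hcard, ← hKc.card_mul] at h
    exact Nat.eq_of_mul_eq_mul_left Nat.card_pos h
  obtain ⟨D, hD⟩ := Subgroup.exists_right_complement'_of_coprime (N := M) (by rw [hMi, hMc]; exact hcop)
  have hDc : Nat.card D = Nat.card C := hD.symm.index_eq_card.symm.trans hMi
  have hMne : M ≠ ⊥ := fun h => hC.2.1 (eq_top_of_card_eq C (by
    have h1 : Nat.card K = 1 := by rw [← hMc, h, card_bot]
    rw [← hKc.card_mul, h1, one_mul]))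
  have hDne : D ≠ ⊥ := fun h => hC.1 (card_eq_one.mp (by rw [← hDc, h, card_bot]))
  refine ⟨D, (isFrobeniusComplement_iff_fpf hD hMne hDne).mpr fun d hd hd1 => ?_⟩
  rw [eq_bot_iff]
  rintro x ⟨hxM, hxC⟩
  rw [mem_bot]
  by_contra hx1
  have ho1 : orderOf x ∣ Nat.card K := by
    rw [← hMc, ← Subgroup.orderOf_mk x hxM]; exact orderOf_dvd_natCard _
  have ho2 : orderOf d ∣ Nat.card C := by
    rw [← hDc, ← Subgroup.orderOf_mk d hd]; exact orderOf_dvd_natCard _
  have hox : orderOf (x * d) = orderOf x * orderOf d :=
    (show Commute x d from mem_centralizer_singleton_iff.mp hxC).orderOf_mul_eq_mul_orderOf_of_coprime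
      ((hcop.coprime_dvd_left ho1).coprime_dvd_right ho2)
  obtain ⟨e, he⟩ := exists_equiv_orderOf hT
  have hdich := orderOf_dvd_kernel_or_complement hK (e.symm (x * d))
  rw [← he, Equiv.apply_symm_apply, hox] at hdich
  rcases hdich with h | h
  · exact hd1 (orderOf_eq_one_iff.mp
      (Nat.eq_one_of_dvd_coprimes hcop ((dvd_mul_left _ _).trans h) ho2))
  · exact hx1 (orderOf_eq_one_iff.mp
      (Nat.eq_one_of_dvd_coprimes hcop ho1 ((dvd_mul_right _ _).trans h)))

theorem closure_a_xa (n : ℕ) :
    closure ({QuaternionGroup.a 1, QuaternionGroup.xa 0} : Set (QuaternionGroup (2 ^ n))) = ⊤ := by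
  haveI : NeZero (2 * 2 ^ n) := ⟨by positivity⟩
  rw [eq_top_iff]
  have h : ∀ i : ZMod (2 * 2 ^ n), QuaternionGroup.a i ∈
      closure ({QuaternionGroup.a 1, QuaternionGroup.xa 0} : Set (QuaternionGroup (2 ^ n))) := fun i => by
    rw [show QuaternionGroup.a i = (QuaternionGroup.a 1) ^ i.val by
      rw [QuaternionGroup.a_one_pow, ZMod.natCast_zmod_val]]
    exact pow_mem (subset_closure (by simp)) _
  rintro (i | i) -
  · exact h i
  · rw [show QuaternionGroup.xa i = QuaternionGroup.xa 0 * QuaternionGroup.a i by
      rw [QuaternionGroup.xa_mul_a, zero_add]]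
    exact mul_mem (subset_closure (by simp)) (h i)

theorem rankTwo_complement {C : Subgroup F} (hC : IsFrobeniusComplement C) {K : Subgroup F}
    [K.Normal] (hc : K.IsComplement' C) : Cfsg.Lib.RankTwo.RankTwo C := by
  have hK : K ≠ ⊥ := fun h => hC.2.1 (eq_top_of_card_eq C (by
    rw [← hc.card_mul, h, card_bot, one_mul]))
  have hf : Fpf C K := (isFrobeniusComplement_iff_fpf hc hK hC.1).mp hC
  have key : ∀ (p : ℕ) [Fact p.Prime] (S : Subgroup C), IsPGroup p S →
      IsCyclic S ∨ (p = 2 ∧ ∃ n : ℕ, Nonempty (S ≃* QuaternionGroup (2 ^ n))) := by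
    intro p _ S hS
    let e := S.equivMapOfInjective C.subtype C.subtype_injective
    rcases (hf.mono (map_subtype_le S)).isCyclic_or_quaternion le_normalizer_of_normal hK (hS.map _)
      with h | ⟨h2, n, ⟨f⟩⟩
    · exact Or.inl (isCyclic_of_surjective e.symm e.symm.surjective)
    · exact Or.inr ⟨h2, n, ⟨e.trans f⟩⟩
  refine ⟨fun p hp hodd S hS => ?_, fun S hS => ?_⟩
  · haveI := Fact.mk hp
    exact (key p S hS).resolve_right fun h => hodd h.1
  · rcases key 2 S hS with h | ⟨-, n, ⟨f⟩⟩
    · obtain ⟨⟨g, hg⟩, hgen⟩ := h.exists_generator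
      refine ⟨g, g, ?_⟩
      rw [Set.pair_eq_singleton, ← zpowers_eq_closure]
      refine le_antisymm (zpowers_le.mpr hg) fun x hx => ?_
      obtain ⟨k, hk⟩ := mem_zpowers_iff.mp (hgen ⟨x, hx⟩)
      exact mem_zpowers_iff.mpr ⟨k, congrArg Subtype.val hk⟩
    · refine ⟨(f.symm (.a 1) : S), (f.symm (.xa 0) : S), ?_⟩
      have h := congrArg (Subgroup.map (S.subtype.comp f.symm.toMonoidHom)) (closure_a_xa n)
      rw [MonoidHom.map_closure, Set.image_pair] at h
      refine h.trans ?_
      rw [← Subgroup.map_map, map_top_of_surjective _ f.symm.surjective,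
        ← MonoidHom.range_eq_map, range_subtype]

/-- The tower above the kernel. -/
theorem exists_normal_hall_tower {C : Subgroup F} (hC : IsFrobeniusComplement C)
    (hsol : Group.IsSolvable F) (t : ℕ) (ht : 5 ≤ t) :
    ∃ (K : Subgroup F) (N : Subgroup F), Nat.card K = C.index ∧ Group.IsNilpotent K ∧ K ≤ N ∧
      N.Normal ∧ (∀ r : ℕ, r.Prime → r ∣ Nat.card N → r ∣ C.index ∨ t ≤ r) ∧
      (∀ r : ℕ, r.Prime → r ∣ N.index → r < t ∧ ¬ r ∣ C.index) := by
  obtain ⟨K, hK, hKn, hKc⟩ := exists_kernel hC
  haveI := hKn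
  haveI := hsol
  have hci : C.index = Nat.card K := hKc.index_eq_card
  have hcop := card_coprime_kernel hC hKc
  haveI : Group.IsSolvable C := Group.isSolvable_of_isSolvable_injective C.subtype_injective
  obtain ⟨N', hN'n, h1, h2⟩ :=
    Cfsg.Lib.RankTwo.exists_normal_hall_ge (rankTwo_complement hC hKc) t ht
  let e : C ≃* F ⧸ K := hKc.symm.QuotientMulEquiv.symm
  have hN'' : (N'.map e.toMonoidHom).Normal := hN'n.map _ e.surjective
  haveI := hN''
  set N := (N'.map e.toMonoidHom).comap (QuotientGroup.mk' K) with hN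
  have hNc : Nat.card N = Nat.card K * Nat.card N' := by
    rw [hN, Cfsg.Lib.Coprime.card_comap_mk', Subgroup.card_map_of_injective e.injective]
  have hNi : N.index = N'.index := by
    rw [hN, index_comap_of_surjective _ (QuotientGroup.mk'_surjective K)]
    exact N'.index_map_equiv e
  refine ⟨K, N, hci.symm, isNilpotent_kernel hC hK,
    (QuotientGroup.ker_mk' K).ge.trans (MonoidHom.ker_le_comap _ _), hN''.comap _,
    fun r hr hd => ?_, fun r hr hd => ?_⟩
  · rw [hNc] at hd
    rcases hr.dvd_mul.mp hd with h | h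
    · exact Or.inl (hci ▸ h)
    · exact Or.inr (h1 r hr h)
  · rw [hNi] at hd
    refine ⟨h2 r hr hd, fun h => hr.not_dvd_one ?_⟩
    rw [← hcop]
    exact Nat.dvd_gcd (hci ▸ h) (hd.trans N'.index_dvd_card)

set_option maxHeartbeats 800000 in
/-- Solvability passes to groups of the same order type, for Frobenius groups. -/
theorem isSolvable_of_frobenius
    (hT : ∀ m : ℕ, Nat.card {g : F // orderOf g = m} = Nat.card {h : G // orderOf h = m})
    {C : Subgroup F} (hC : IsFrobeniusComplement C) (hsol : Group.IsSolvable F) :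
    Group.IsSolvable G := by
  have hcard := card_eq hT
  set m := C.index with hm
  have hfac : ∀ (t r : ℕ) (N : Subgroup F), r.Prime →
      (∀ q : ℕ, q.Prime → q ∣ Nat.card N → q ∣ m ∨ t ≤ q) →
      (∀ q : ℕ, q.Prime → q ∣ N.index → q < t ∧ ¬ q ∣ m) →
      (Nat.card N).factorization r =
        if r ∣ m ∨ t ≤ r then (Nat.card F).factorization r else 0 := by
    intro t r N hr h1 h2
    split
    · next htr =>
      rw [← N.card_mul_index, Nat.factorization_mul Nat.card_pos.ne' N.index_ne_zero_of_finite,
        Finsupp.add_apply, Nat.factorization_eq_zero_of_not_dvd (n := N.index) (fun h => by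
          obtain ⟨a, b⟩ := h2 r hr h
          rcases htr with h' | h'
          · exact b h'
          · omega), add_zero]
    · next htr => exact Nat.factorization_eq_zero_of_not_dvd fun h => htr (h1 r hr h)
  have step : ∀ (j t : ℕ), 5 ≤ t → t + j = Nat.card F + 6 →
      ∃ (N : Subgroup F) (K : Subgroup G), N.Normal ∧
        (∀ q : ℕ, q.Prime → q ∣ Nat.card N → q ∣ m ∨ t ≤ q) ∧
        (∀ q : ℕ, q.Prime → q ∣ N.index → q < t ∧ ¬ q ∣ m) ∧
        Nat.card K = Nat.card N ∧ Group.IsSolvable K ∧ K.Normal := by
    intro j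
    induction j with
    | zero =>
      intro t ht htj
      obtain ⟨K, N, hKm, hKnil, hKN, hNn, h1, h2⟩ := exists_normal_hall_tower hC hsol t ht
      have hbig : ∀ r : ℕ, r.Prime → r ∣ Nat.card N → r ∣ m := fun r hr hd =>
        (h1 r hr hd).resolve_right fun h => by
          have := Nat.le_of_dvd Nat.card_pos (hd.trans (card_subgroup_dvd_card N)); omega
      haveI := hNn
      haveI := hKnil
      have hfm : ∀ r : ℕ, r.Prime → r ∣ m → (Nat.card K).factorization r =
          (Nat.card F).factorization r := fun r hr hrm => by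
        have h3 : (Nat.card K).factorization r = m.factorization r := by rw [hKm]
        obtain ⟨K', -, hK'n, hK'c⟩ := exists_kernel hC
        have hcop := card_coprime_kernel hC hK'c
        have hci : m = Nat.card K' := hK'c.index_eq_card
        rw [h3, hci, ← K'.card_mul_index, hK'c.symm.index_eq_card,
          Nat.factorization_mul Nat.card_pos.ne' Nat.card_pos.ne', Finsupp.add_apply,
          Nat.factorization_eq_zero_of_not_dvd (n := Nat.card C) fun h =>
            hr.not_dvd_one (hcop ▸ Nat.dvd_gcd (hci ▸ hrm) h), add_zero]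
      have hKeq : Nat.card K = Nat.card N := Nat.eq_of_factorization_eq Nat.card_pos.ne'
        Nat.card_pos.ne' fun r => by
          by_cases hr : r.Prime
          swap
          · simp [Nat.factorization_eq_zero_of_not_prime _ hr]
          rw [hfac t r N hr h1 h2]
          by_cases hrm : r ∣ m
          · rw [if_pos (Or.inl hrm), hfm r hr hrm]
          · rw [hKm, Nat.factorization_eq_zero_of_not_dvd hrm]
            split
            · next h =>
              refine (Nat.factorization_eq_zero_of_not_dvd fun hd => ?_).symm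
              have := Nat.le_of_dvd Nat.card_pos hd
              rcases h with h | h
              · exact hrm h
              · omega
            · rfl
      have hKt : N = K := (eq_of_le_of_card_ge hKN hKeq.ge).symm
      subst hKt
      obtain ⟨M, hM, hMnil, hMc⟩ := exists_normal_nilpotent (G := G) (m := m)
        (by rw [hm]; exact C.index_ne_zero_of_finite) (fun r _ hr P => by
          obtain ⟨Q⟩ : Nonempty (Sylow r N) := inferInstance
          haveI : (Q : Subgroup N).Normal :=
            ((Group.isNilpotent_of_finite_tfae (G := N)).out 0 3 rfl rfl).mp hKnil r ‹_› Q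
          haveI : (Q : Subgroup N).Characteristic := Q.characteristic_of_normal inferInstance
          have hc : Nat.card ((Q : Subgroup N).map N.subtype) = r ^ (Nat.card F).factorization r := by
            rw [card_subtype, Q.card_eq_multiplicity, hfm r Fact.out hr]
          refine normal_of_same_orderType hT ((Q : Subgroup N).map N.subtype) ?_ (P : Subgroup G) ?_
          · rw [card_subtype, index_map_subtype]
            exact Nat.Coprime.mul_right Q.card_coprime_index
              (Nat.Coprime.coprime_dvd_left (card_subgroup_dvd_card _) (Nat.coprime_of_dvd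
                fun q hq a b => (h2 q hq b).2 (hbig q hq a)))
          · rw [hc, P.card_eq_multiplicity, hcard])
        (fun r hr hrm => by rw [← hcard, ← hfm r hr hrm, hKm])
      haveI := hMnil
      exact ⟨N, M, hNn, h1, h2, by rw [hMc, hKm], inferInstance, hM⟩
    | succ j ih =>
      intro t ht htj
      obtain ⟨N', K', hN'n, h1', h2', hK', hs', hK'n⟩ := ih (t + 1) (by omega) (by omega)
      by_cases htp : t.Prime ∧ ¬ t ∣ m
      swap
      · refine ⟨N', K', hN'n, fun q hq hd => (h1' q hq hd).imp_right (by omega), fun q hq hd => ?_,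
          hK', hs', hK'n⟩
        obtain ⟨a, b⟩ := h2' q hq hd
        refine ⟨lt_of_le_of_ne (Nat.lt_succ_iff.mp a) fun h => ?_, b⟩
        subst h
        exact htp ⟨hq, b⟩
      obtain ⟨htp, htm⟩ := htp
      obtain ⟨-, N, -, -, -, hNn, h1, h2⟩ := exists_normal_hall_tower hC hsol t ht
      haveI := Fact.mk htp
      haveI := hN'n
      haveI := hNn
      haveI := hK'n
      obtain ⟨Q⟩ : Nonempty (Sylow t G) := inferInstance
      have hinf : K' ⊓ (Q : Subgroup G) = ⊥ := by
        refine Cfsg.Lib.Coprime.inf_eq_bot_of_coprime ?_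
        rw [Q.card_eq_multiplicity, hK']
        exact ((htp.coprime_iff_not_dvd.mpr fun h => (h1' t htp h).elim htm (by omega)).pow_left _).symm
      have hc := Cfsg.Lib.Coprime.card_sup_of_inf_eq_bot
        (le_normalizer_of_normal (H := K') (K := (Q : Subgroup G))) hinf
      have hcN : Nat.card ↥(K' ⊔ (Q : Subgroup G)) = Nat.card N := by
        rw [hc, hK', Q.card_eq_multiplicity, ← hcard]
        refine Nat.eq_of_factorization_eq (mul_ne_zero Nat.card_pos.ne' (pow_ne_zero _ htp.ne_zero))
          Nat.card_pos.ne' fun r => ?_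
        by_cases hr : r.Prime
        swap
        · simp [Nat.factorization_eq_zero_of_not_prime _ hr]
        rw [Nat.factorization_mul Nat.card_pos.ne' (pow_ne_zero _ htp.ne_zero), Finsupp.add_apply,
          htp.factorization_pow, hfac (t + 1) r N' hr h1' h2', hfac t r N hr h1 h2,
          Finsupp.single_apply]
        by_cases hrm : r ∣ m
        · have hne : t ≠ r := fun h => htm (h ▸ hrm)
          simp [hrm, hne]
        · rcases lt_trichotomy t r with h | h | h
          · simp [hrm, h.ne, h.le, show t + 1 ≤ r by omega]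
          · subst h; simp [hrm]
          · simp [hrm, show ¬ t ≤ r by omega, show ¬ t + 1 ≤ r by omega, show t ≠ r by omega]
      have hnorm : (K' ⊔ (Q : Subgroup G)).Normal := normal_of_same_orderType hT N
        (Nat.coprime_of_dvd fun q hq a b => by
          obtain ⟨c, d⟩ := h2 q hq b
          rcases h1 q hq a with h | h
          · exact d h
          · omega) _ hcN
      refine ⟨N, _, hNn, h1, h2, hcN, ?_, hnorm⟩
      haveI := hs'
      haveI : Group.IsSolvable (K'.subgroupOf (K' ⊔ (Q : Subgroup G))) :=
        Group.isSolvable_of_isSolvable_injective (f := (subgroupOfEquivOfLe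
          (le_sup_left : K' ≤ K' ⊔ (Q : Subgroup G))).toMonoidHom) (subgroupOfEquivOfLe _).injective
      haveI : Group.IsSolvable (↥(K' ⊔ (Q : Subgroup G)) ⧸ K'.subgroupOf (K' ⊔ (Q : Subgroup G))) := by
        have hp : IsPGroup t (↥(K' ⊔ (Q : Subgroup G)) ⧸ K'.subgroupOf (K' ⊔ (Q : Subgroup G))) :=
          IsPGroup.of_card (n := (Nat.card G).factorization t) (by
            rw [← Subgroup.index_eq_card, ← Subgroup.relIndex, Subgroup.relIndex_sup_left,
              ← Subgroup.inf_relIndex_right, hinf, Subgroup.relIndex_bot_left, Q.card_eq_multiplicity])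
        haveI := hp.isNilpotent
        infer_instance
      exact Group.isSolvable_of_ker_le_range (Subgroup.subtype (K'.subgroupOf (K' ⊔ (Q : Subgroup G))))
        (QuotientGroup.mk' (K'.subgroupOf (K' ⊔ (Q : Subgroup G)))) (by simp)
  obtain ⟨N, K, -, h1, h2, hK, hs, hKn⟩ := step (Nat.card F + 1) 5 le_rfl (by omega)
  haveI := hKn
  haveI := hs
  have hidx : K.index = N.index := by
    have h := K.card_mul_index
    rw [hK, ← hcard, ← N.card_mul_index] at h
    exact Nat.eq_of_mul_eq_mul_left Nat.card_pos h
  have hdiv : ∀ q : ℕ, q.Prime → q ∣ Nat.card (G ⧸ K) → q = 2 ∨ q = 3 := fun q hq hd => by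
    rw [← Subgroup.index_eq_card, hidx] at hd
    have h5 := (h2 q hq hd).1
    have h2' := hq.two_le
    interval_cases q
    · exact Or.inl rfl
    · exact Or.inr rfl
    · exact absurd hq (by norm_num)
  haveI : Group.IsSolvable (G ⧸ K) :=
    Cfsg.Lib.Chars.burnside_isSolvable 2 3 Nat.prime_two Nat.prime_three (G ⧸ K)
      ⟨(Nat.card (G ⧸ K)).factorization 2, (Nat.card (G ⧸ K)).factorization 3, by
        refine Nat.eq_of_factorization_eq Nat.card_pos.ne' (mul_ne_zero (pow_ne_zero _ (by norm_num)) (pow_ne_zero _ (by norm_num))) fun r => ?_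
        rw [Nat.factorization_mul (pow_ne_zero _ (by norm_num)) (pow_ne_zero _ (by norm_num)), Finsupp.add_apply,
          Nat.prime_two.factorization_pow, Nat.prime_three.factorization_pow, Finsupp.single_apply,
          Finsupp.single_apply]
        by_cases hr : r.Prime ∧ r ∣ Nat.card (G ⧸ K)
        · rcases hdiv r hr.1 hr.2 with rfl | rfl <;> simp
        · have h0 : (Nat.card (G ⧸ K)).factorization r = 0 := by
            rcases not_and_or.mp hr with h | h
            · exact Nat.factorization_eq_zero_of_not_prime _ h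
            · exact Nat.factorization_eq_zero_of_not_dvd h
          rw [h0]
          split <;> split <;> (try subst_vars) <;> omega⟩
  exact Group.isSolvable_of_ker_le_range K.subtype (QuotientGroup.mk' K) (by simp)

end Cfsg.Lib.OrderType
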